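import Groth.Agent.RelPCSchLib.Module
import Groth.Agent.PerfModLib.Basic
import Groth.Agent.FlatLib.QStalk
import Groth.Agent.RichLib.FlatColimit
import Groth.Prelude.Def_DerSch2

/-!
# Relatively finitely presented modules that are flat over the base
-/

set_option autoImplicit false
set_option linter.style.haveILetI false
set_option backward.isDefEq.respectTransparency false
set_option backward.isDefEq.respectTransparency.types false

universe u

open CategoryTheory CategoryTheory.Limits AlgebraicGeometry TopologicalSpace Opposite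

attribute [local instance] HasDerivedCategory.standard

namespace Groth.Agent.RelPCSchLib

open Groth.Agent.PerfLib (res resD resC resDQIso isPC_of_iso)
open Groth.Agent.ImmPCLib (pushD lim_push colim_push)

attribute [local instance] lim_push colim_push

variable {X S : Scheme.{u}} (f : X ⟶ S)

/-- On a chart, a quasi-coherent module is tested by its sections, in every degree. -/
theorem cpc_inD_iff_pcoh {U : X.Opens} (hU : IsAffineOpen U) (M : X.Modules) [hM : Coh.IsQCoh M]
    {V : S.Opens} {n : ℕ} (φ : MvPolynomial (Fin n) Γ(S, V) →+* Γ(X, U)) (hφ : Function.Surjective φ)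
    (m : ℤ) :
    CPC m (DCoh.inD X M) U φ ↔
      letI : Module (MvPolynomial (Fin n) Γ(S, V)) Γ(M, U) := Module.compHom _ φ
      DRing.IsPseudoCoherentModule (MvPolynomial (Fin n) Γ(S, V)) m Γ(M, U) := by
  let A := X.presheaf.obj (op U)
  haveI : PreservesFiniteLimits (tilde.functor A) := FlatRelPCLib.tildeExact A
  let N : ModuleCat.{u} Γ(X, U) := (moduleSpecΓFunctor (R := A)).obj (M.restrict hU.fromSpec)
  haveI : IsIso (M.restrict hU.fromSpec).fromTildeΓ :=
    @Scheme.Modules.isIso_fromTildeΓ_of_isQuasicoherent _ _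
      (Scheme.Modules.isQuasicoherent_restrictFunctor hU.fromSpec M)
  have hMod : FlatRelPCLib.Mod (DCoh.inD X M) hU ((DerivedCategory.singleFunctor _ 0).obj N) :=
    ⟨((tilde.functor A).mapDerivedCategorySingleFunctor 0).app N ≪≫
      (DerivedCategory.singleFunctor _ 0).mapIso (asIso (M.restrict hU.fromSpec).fromTildeΓ) ≪≫
      (((res hU.fromSpec).mapDerivedCategorySingleFunctor 0).app M).symm⟩
  rw [← chartPC_iff m (DCoh.inD X M) hU V φ hφ, FlatRelPCLib.chartPC_iff hU φ hφ hMod m,
    RelPCLib.pv_module_iff]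
  obtain ⟨e⟩ := exists_sections_equiv hU M
  letI : Module (MvPolynomial (Fin n) Γ(S, V)) Γ(M, U) := Module.compHom _ φ
  let l : ((ModuleCat.restrictScalars.{u} φ).obj N) ≃ₗ[MvPolynomial (Fin n) Γ(S, V)] Γ(M, U) :=
    { e.toAddEquiv with map_smul' := fun r x => e.map_smul (φ r) x }
  exact ⟨PerfModLib.pcoh_of_equiv l, PerfModLib.pcoh_of_equiv l.symm⟩

theorem flat_sections (M : X.Modules) [Coh.IsQCoh M] (hfl : FlatMod.IsFlatOver f M) {U : X.Opens}
    (hU : IsAffineOpen U) {V : S.Opens} (hV : IsAffineOpen V) (h : U ≤ f ⁻¹ᵁ V) :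
    letI : Module Γ(S, V) Γ(M, U) := Module.compHom _ (f.appLE V U h).hom
    Module.Flat Γ(S, V) Γ(M, U) := by
  letI : Algebra Γ(S, V) Γ(X, U) := (f.appLE V U h).hom.toAlgebra
  letI : Module Γ(S, V) Γ(M, U) := Module.compHom _ (f.appLE V U h).hom
  haveI : IsScalarTower Γ(S, V) Γ(X, U) Γ(M, U) := IsScalarTower.of_algebraMap_smul fun _ _ => rfl
  refine (RichLib.FlatColimit.flat_iff_flatLocus_eq_univ (S := Γ(X, U))).2 fun q => ?_
  let P : (U : Scheme.{u}) := hU.isoSpec.inv.base q
  have hq : hU.primeIdealOf ⟨P.1, P.2⟩ = q := by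
    change hU.isoSpec.hom.base P = q
    exact congrArg (fun g => g.base q) hU.isoSpec.inv_hom_id
  rw [← hq]
  exact (FlatLib.isFlatOverAt_iff f M V hV U hU h P.2 rfl).1 (hfl P.1)

/-- Flatness over the base upgrades relative finite presentation to relative pseudo-coherence. -/
theorem rel_inD_of_flat [LocallyOfFiniteType f] (M : X.Modules) (hfl : FlatMod.IsFlatOver f M)
    (h : DerSch.IsPseudoCoherentRel f (-1) (DCoh.inD X M)) (m : ℤ) :
    DerSch.IsPseudoCoherentRel f m (DCoh.inD X M) := by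
  haveI : Coh.IsQCoh M := ((rel_inD_neg_one_iff f M).1 h).1
  refine rel_of_rpc f fun U V hUV => ?_
  obtain ⟨n, φ, hφ⟩ := exists_isChart f U.2 V.2 hUV
  refine rpc_of_cpc f U.2 φ hφ.1 hφ.2 ((cpc_inD_iff_pcoh U.2 M φ hφ.1 m).2 ?_)
  have hfp := (cpc_inD_iff U.2 M φ hφ.1).1 (rpc_of_rel f h U.2 V.2 hUV n φ hφ)
  have hflat := flat_sections f M hfl U.2 V.2 hUV
  let R := Γ(S, (V : S.Opens))
  let P := MvPolynomial (Fin n) R
  letI : Module P Γ(M, U) := Module.compHom _ φ
  letI : Module R Γ(M, U) := Module.compHom _ (f.appLE V.1 U.1 hUV).hom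
  haveI : IsScalarTower R P Γ(M, U) := IsScalarTower.of_algebraMap_smul fun r x => by
    change φ (MvPolynomial.C r) • x = (f.appLE V.1 U.1 hUV).hom r • x
    rw [← hφ.2]
    rfl
  haveI : Module.FinitePresentation P Γ(M, U) := hfp
  haveI : Module.Flat R Γ(M, U) := hflat
  exact PerfModLib.pcoh'_iff.1 (PerfModLib.pcoh'_of_flat (A := R) (B := P) Γ(M, U)) m

/-- A bounded above complex with such terms is relatively pseudo-coherent. -/
theorem relAll_of_flat_terms [LocallyOfFiniteType f] (E : CochainComplex X.Modules ℤ) (b : ℤ)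
    (hb : ∀ i : ℤ, b < i → IsZero (E.X i)) (hfl : ∀ i : ℤ, FlatMod.IsFlatOver f (E.X i))
    (hfp : ∀ i : ℤ, DerSch.IsPseudoCoherentRel f (-1) (DCoh.inD X (E.X i))) :
    DerSch.IsPseudoCoherentRelAll f (DCoh.toD X E) := fun _ =>
  rel_of_terms f E b hb fun i => rel_inD_of_flat f _ (hfl i) (hfp i) _

theorem hasTorAmplitude_of_flat_terms (E : CochainComplex X.Modules ℤ) (a b : ℤ)
    (hab : DCoh.VanishesOutside E a b) (hfl : ∀ i : ℤ, FlatMod.IsFlatOver f (E.X i)) :
    DerSch.HasTorAmplitude f a b E := fun x =>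
  ⟨(DerSch.stalkCxOver f x).obj E, fun i hi => (DerSch.stalkOver f x).map_isZero (hab i hi),
    fun i => hfl i x, ⟨Iso.refl _⟩⟩

end Groth.Agent.RelPCSchLib

namespace Groth.Agent.RelPCSchLib

/-- The degree `0` term of a complex concentrated in degree `0` is its homology. -/
noncomputable def homologyZeroIso {A : Type u} [CommRing A] (E : DRing.Cx A) (h : DRing.VanishesOutside E 0 0) :
    E.homology 0 ≅ E.X 0 :=
  (E.isoHomologyι 0 1 (by simp) ((h 1 (by omega)).eq_of_tgt _ _)).trans
    (E.pOpcyclesIso (-1) 0 (by simp) ((h (-1) (by omega)).eq_of_src _ _)).symm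

/-- A module with tor amplitude `[0, 0]` is flat over the base. -/
theorem isFlatOver_of_torAmplitude {X S : Scheme.{u}} (f : X ⟶ S) (M : X.Modules)
    (h : DerSch.HasTorAmplitude f 0 0 ((HomologicalComplex.single _ (ComplexShape.up ℤ) 0).obj M)) :
    FlatMod.IsFlatOver f M := fun x => by
  obtain ⟨E, hE, hfl, ⟨e⟩⟩ := h x
  let A := (S.presheaf.stalk (f.base x) : Type u)
  let C := (DerSch.stalkCxOver f x).obj ((HomologicalComplex.single _ (ComplexShape.up ℤ) 0).obj M)
  have hC : DRing.VanishesOutside C 0 0 := fun i hi =>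
    (DerSch.stalkOver f x).map_isZero (HomologicalComplex.isZero_single_obj_X _ 0 M i (by omega))
  let eH : E.homology 0 ≅ C.homology 0 :=
    ((DerivedCategory.homologyFunctorFactors (ModuleCat.{u} A) 0).app E).symm ≪≫
      (DerivedCategory.homologyFunctor (ModuleCat.{u} A) 0).mapIso e ≪≫
      (DerivedCategory.homologyFunctorFactors (ModuleCat.{u} A) 0).app C
  haveI : Module.Flat A (E.X 0) := hfl 0
  change Module.Flat A ((DerSch.stalkOver f x).obj M)
  exact Module.Flat.of_linearEquiv ((homologyZeroIso E hE).symm ≪≫ eH ≪≫ homologyZeroIso C hC ≪≫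
    (DerSch.stalkOver f x).mapIso (HomologicalComplex.singleObjXSelf (ComplexShape.up ℤ) 0 M)).toLinearEquiv.symm

end Groth.Agent.RelPCSchLib
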