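import Groth.Agent.PerfLib.PCohSummand
import Groth.Agent.PerfLib.FiniteType

/-!
# Pseudo-coherence from the terms and from the cohomology
-/

set_option autoImplicit false
set_option linter.style.haveILetI false
set_option backward.isDefEq.respectTransparency false
set_option backward.isDefEq.respectTransparency.types false

universe u

open CategoryTheory CategoryTheory.Limits CategoryTheory.Pretriangulated AlgebraicGeometry HomologicalComplex

attribute [local instance] HasDerivedCategory.standard

namespace Groth.Agent.RelPCSchLib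

open Groth.Agent.PerfLib (isPC_of_iso)

variable {X : Scheme.{u}}

theorem isPC_singleFunctor {m i : ℤ} {M : X.Modules}
    (h : DCoh.IsPseudoCoherentD (m - i) (DCoh.inD X M)) :
    DCoh.IsPseudoCoherentD m ((DerivedCategory.singleFunctor X.Modules i).obj M) := by
  have := Groth.Agent.PerfLib.isPC_shift h (-i)
  rw [show m - i - -i = m by ring] at this
  exact isPC_of_iso (((DerivedCategory.singleFunctors X.Modules).shiftIso (-i) i 0 (by omega)).app M) this

/-- Pseudo-coherence from the cohomology sheaves. -/
theorem isPC_of_homology (m : ℤ) : ∀ (k : ℕ) (K : DCoh.D X),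
    (∀ i, m - 1 + k < i → IsZero (DCoh.HD K i)) →
      (∀ i, DCoh.IsPseudoCoherentD (m - i) (DCoh.inD X (DCoh.HD K i))) →
        DCoh.IsPseudoCoherentD m K := by
  intro k
  induction k with
  | zero => exact fun K hK _ => Groth.Agent.PerfLib.isPC_of_isZero_above fun i hi => hK i (by omega)
  | succ k ih =>
    intro K hK hpc
    obtain ⟨b, hb⟩ : ∃ b, b = m + k := ⟨_, rfl⟩
    obtain ⟨P, Y, hP, hY, f, g, h, hT⟩ :=
      DerivedCategory.TStructure.t.exists_triangle K (b - 1) b (by omega)
    have : P.IsLE (b - 1) := ⟨hP⟩
    have : Y.IsGE b := ⟨hY⟩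
    let T : Triangle (DCoh.D X) := Triangle.mk f g h
    have hP0 : ∀ i, b ≤ i → IsZero (DCoh.HD P i) := fun i hi =>
      DerivedCategory.isZero_of_isLE P (b - 1) i (by omega)
    have hY0 : ∀ i, i < b → IsZero (DCoh.HD Y i) := fun i hi =>
      DerivedCategory.isZero_of_isGE Y b i hi
    let H := fun i => DerivedCategory.homologyFunctor X.Modules i
    have hf : ∀ i, i < b → IsIso ((H i).map f) := fun i hi => by
      have := (DerivedCategory.HomologySequence.mono_homologyMap_mor₁_iff T hT (i - 1) i
        (by omega)).mpr ((hY0 (i - 1) (by omega)).eq_of_src _ _)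
      have := (DerivedCategory.HomologySequence.epi_homologyMap_mor₁_iff T hT i).mpr
        ((hY0 i hi).eq_of_tgt _ _)
      exact isIso_of_mono_of_epi ((H i).map T.mor₁)
    have hg : ∀ i, b ≤ i → IsIso ((H i).map g) := fun i hi => by
      have := (DerivedCategory.HomologySequence.exact₂ T hT i).mono_g ((hP0 i hi).eq_of_src _ _)
      have := (DerivedCategory.HomologySequence.exact₃ T hT i (i + 1) rfl).epi_f
        ((hP0 (i + 1) (by omega)).eq_of_tgt _ _)
      exact isIso_of_mono_of_epi ((H i).map T.mor₂)
    have : Y.IsLE b := (DerivedCategory.isLE_iff Y b).mpr fun i hi => by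
      have := hg i hi.le
      exact (hK i (by push_cast; omega)).of_iso (asIso ((H i).map g)).symm
    obtain ⟨N, ⟨eN⟩⟩ := DerivedCategory.exists_iso_singleFunctor_obj_of_isGE_of_isLE Y b
    let F := DerivedCategory.singleFunctor X.Modules 0
    refine Groth.Agent.PerfLib.isPC_obj₂ T hT m (ih P (fun i hi => hP0 i (by omega)) fun i => ?_) ?_
    · rcases lt_or_ge i b with hi | hi
      · have := hf i hi
        exact isPC_of_iso (F.mapIso (asIso ((H i).map f)).symm) (hpc i)
      · exact Groth.Agent.PerfLib.isPC_of_isZero_above fun j _ =>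
          (DerivedCategory.homologyFunctor _ j).map_isZero (F.map_isZero (hP0 i hi))
    · refine isPC_of_iso eN.symm (isPC_singleFunctor ?_)
      have := hg b le_rfl
      let e : DCoh.HD K b ≅ N := asIso ((H b).map g) ≪≫ (H b).mapIso eN ≪≫
        (DerivedCategory.singleFunctorCompHomologyFunctorIso X.Modules b).app N
      exact isPC_of_iso (F.mapIso e) (hpc b)

/-- Pseudo-coherence from the terms. -/
theorem isPC_of_terms (m : ℤ) : ∀ (k : ℕ) (F : CochainComplex X.Modules ℤ),
    (∀ i, m - 1 + k < i → IsZero (F.X i)) →
      (∀ i, DCoh.IsPseudoCoherentD (m - i) (DCoh.inD X (F.X i))) →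
        DCoh.IsPseudoCoherentD m (DCoh.toD X F) := by
  intro k
  induction k with
  | zero =>
    exact fun F hF _ => Groth.Agent.PerfLib.isPC_of_isZero_above fun i hi =>
      Groth.Agent.PerfLib.isZero_HD_of_exactAt (ExactAt.of_isZero (hF i (by omega)))
  | succ k ih =>
    intro F hF hpc
    obtain ⟨b, hb⟩ : ∃ b, b = m + k := ⟨_, rfl⟩
    let ι : (single X.Modules (ComplexShape.up ℤ) b).obj (F.X b) ⟶ F :=
      mkHomFromSingle (𝟙 _) fun j hj => (hF j (by simp at hj; push_cast; omega)).eq_of_tgt _ _
    have hι : IsIso (ι.f b) := by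
      rw [show ι.f b = (singleObjXSelf (ComplexShape.up ℤ) b (F.X b)).hom ≫ 𝟙 _ from
        mkHomFromSingle_f _ _]
      infer_instance
    haveI : Mono ι := by
      haveI : ∀ i, Mono (ι.f i) := fun i => by
        by_cases h : i = b
        · subst h; infer_instance
        · exact ⟨fun a c _ => (isZero_single_obj_X _ _ _ _ h).eq_of_tgt a c⟩
      exact HomologicalComplex.mono_of_mono_f ι inferInstance
    let S := ShortComplex.mk ι (cokernel.π ι) (cokernel.condition ι)
    have hS : S.ShortExact :=
      { exact := ShortComplex.exact_cokernel ι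
        mono_f := inferInstanceAs (Mono ι)
        epi_g := inferInstanceAs (Epi (cokernel.π ι)) }
    let ev := fun i => HomologicalComplex.eval X.Modules (ComplexShape.up ℤ) i
    have hcb : IsZero ((cokernel ι).X b) :=
      (isZero_cokernel_of_epi (ι.f b)).of_iso (PreservesCokernel.iso (ev b) ι)
    have hne : ∀ i, i ≠ b → Nonempty ((cokernel ι).X i ≅ F.X i) := fun i hi => by
      have h0 : ι.f i = 0 := (isZero_single_obj_X _ _ _ _ hi).eq_of_src _ _
      exact ⟨PreservesCokernel.iso (ev i) ι ≪≫ cokernelIsoOfEq h0 ≪≫ cokernelZeroIsoTarget⟩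
    refine Groth.Agent.PerfLib.isPC_obj₂ _ (DerivedCategory.triangleOfSES_distinguished hS) m ?_ ?_
    · exact isPC_of_iso ((DerivedCategory.singleFunctorIsoCompQ X.Modules b).app (F.X b))
        (isPC_singleFunctor (hpc b))
    · refine ih (cokernel ι) (fun i hi => ?_) fun i => ?_
      · rcases eq_or_ne i b with rfl | hib
        · exact hcb
        · obtain ⟨e⟩ := hne i hib
          exact (hF i (by push_cast; omega)).of_iso e
      · rcases eq_or_ne i b with rfl | hib
        · exact Groth.Agent.PerfLib.isPC_of_isZero_above fun j _ =>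
            (DerivedCategory.homologyFunctor _ j).map_isZero
              ((DerivedCategory.singleFunctor X.Modules 0).map_isZero hcb)
        · obtain ⟨e⟩ := hne i hib
          exact isPC_of_iso ((DerivedCategory.singleFunctor X.Modules 0).mapIso e.symm) (hpc i)

end Groth.Agent.RelPCSchLib
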