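import Groth.Agent.RelPCSchLib.Rel
import Groth.Agent.RelPCSchLib.Devissage
import Groth.Agent.ImmPCLib.QCoh
import Groth.Agent.KFlatLib.QCohLpull

/-!
# Properties of relative pseudo-coherence
-/

set_option autoImplicit false
set_option linter.style.haveILetI false
set_option backward.isDefEq.respectTransparency false
set_option backward.isDefEq.respectTransparency.types false

universe u

open CategoryTheory CategoryTheory.Limits CategoryTheory.Pretriangulated AlgebraicGeometry TopologicalSpace Opposite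

attribute [local instance] HasDerivedCategory.standard

namespace Groth.Agent.RelPCSchLib

open Groth.Agent.PerfLib (resD res resDQIso isPC_of_iso)
open Groth.Agent.ImmPCLib (pushD lim_push colim_push)

attribute [local instance] lim_push colim_push

theorem isQCoh_HD_of_isPC {X : Scheme.{u}} {m : ℤ} {E : DCoh.D X} (h : DCoh.IsPseudoCoherentD m E) :
    (∀ i : ℤ, m < i → Coh.IsQCoh (DCoh.HD E i)) ∧
      ∀ x : X, ∃ (V : X.Opens) (Q : (V : Scheme.{u}).Modules) (π : Q ⟶ (res V.ι).obj (DCoh.HD E m)),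
        x ∈ V ∧ Coh.IsQCoh Q ∧ Epi π := by
  choose U hx hU using h
  choose C α hC hα using fun x => hU x _ ⟨DerivedCategory.Q.objObjPreimageIso E⟩
  have hq : ∀ x i, Coh.IsQCoh ((C x).homology i) := fun x i =>
    KFlatLib.isQCoh_homology_of_terms (C x)
      (fun j => (Groth.Agent.PerfLib.isCoh_of_isFinLocFree ((hC x).2 j)).1) i
  let e := fun x i => (DerivedCategory.homologyFunctor _ i).mapIso ((resDQIso (U x).ι _).symm ≪≫
    (resD (U x).ι).mapIso (DerivedCategory.Q.objObjPreimageIso E)) ≪≫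
      Groth.Agent.PerfLib.resHDIso (U x).ι E i
  let q := fun x i => ((DerivedCategory.homologyFunctorFactors _ i).app (C x)).inv ≫
    (DerivedCategory.homologyFunctor _ i).map (α x) ≫ (e x i).hom
  refine ⟨fun i hi => QCohLib.isQCoh_of_cover _ U (eq_top_iff.2 fun x _ => Opens.mem_iSup.2 ⟨x, hx x⟩)
    fun x => ?_, fun x => ⟨U x, _, q x m, hx x, hq x m, ?_⟩⟩
  · haveI := (hα x).1 i hi
    haveI := hq x i
    exact @QCohLib.isQCoh_of_iso _ _ _ (asIso (q x i)) (hq x i)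
  · haveI := (hα x).2
    exact epi_comp' inferInstance (epi_comp' inferInstance inferInstance)

variable {X S : Scheme.{u}} (f : X ⟶ S)

/-- Criterion on all charts. -/
theorem rel_of_charts [LocallyOfFiniteType f] {m : ℤ} {E : DCoh.D X}
    (h : ∀ (U : X.Opens) (V : S.Opens) (_ : IsAffineOpen U) (_ : IsAffineOpen V) (hUV : U ≤ f ⁻¹ᵁ V) (n : ℕ)
      (φ : MvPolynomial (Fin n) Γ(S, V) →+* Γ(X, U)) (_ : DerSch.IsChart f U V hUV φ)
      (_ : IsClosedImmersion (imm U φ)),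
      DCoh.IsPseudoCoherentD m ((pushD (imm U φ)).obj ((resD U.ι).obj E))) :
    DerSch.IsPseudoCoherentRel f m E :=
  rel_of_rpc f fun U V hUV n φ hφ hi => h U V U.2 V.2 hUV n φ hφ hi

theorem isPC_of_rel {m : ℤ} {E : DCoh.D X} (hE : DerSch.IsPseudoCoherentRel f m E) {U : X.Opens}
    {V : S.Opens} (hU : IsAffineOpen U) (hV : IsAffineOpen V) (h : U ≤ f ⁻¹ᵁ V) {n : ℕ}
    (φ : MvPolynomial (Fin n) Γ(S, V) →+* Γ(X, U)) (hφ : DerSch.IsChart f U V h φ)
    [IsClosedImmersion (imm U φ)] :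
    DCoh.IsPseudoCoherentD m ((pushD (imm U φ)).obj ((resD U.ι).obj E)) :=
  rpc_of_rel f hE hU hV h n φ hφ inferInstance

/-- Around every point there is a chart with the property. -/
theorem exists_chart_at {m : ℤ} {E : DCoh.D X} (hE : DerSch.IsPseudoCoherentRel f m E) (x : X) :
    ∃ (U : X.Opens) (V : S.Opens) (n : ℕ) (φ : MvPolynomial (Fin n) Γ(S, V) →+* Γ(X, U)),
      x ∈ U ∧ IsAffineOpen U ∧ ∃ hi : IsClosedImmersion (imm U φ), haveI := hi
        DCoh.IsPseudoCoherentD m ((pushD (imm U φ)).obj ((resD U.ι).obj E)) := by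
  haveI := hE.1
  obtain ⟨_, ⟨V, hV, rfl⟩, hxV, -⟩ :=
    S.isBasis_affineOpens.exists_subset_of_mem_open (Set.mem_univ (f x)) isOpen_univ
  obtain ⟨_, ⟨U, hU, rfl⟩, hxU, hUV⟩ :=
    X.isBasis_affineOpens.exists_subset_of_mem_open (show x ∈ f ⁻¹ᵁ V from hxV) (f ⁻¹ᵁ V).2
  obtain ⟨n, φ, hφ⟩ := exists_isChart f hU hV hUV
  haveI := isClosedImmersion_imm hU hφ.1
  exact ⟨U, V, n, φ, hxU, hU, inferInstance, isPC_of_rel f hE hU hV hUV φ hφ⟩

theorem isQCoh_HD_of_rel {m : ℤ} {E : DCoh.D X} (hE : DerSch.IsPseudoCoherentRel f m E) (i : ℤ)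
    (hi : m < i) : Coh.IsQCoh (DCoh.HD E i) := by
  choose U V n φ hxU hU hc h using exists_chart_at f hE
  refine QCohLib.isQCoh_of_cover _ U (eq_top_iff.2 fun x _ => Opens.mem_iSup.2 ⟨x, hxU x⟩) fun x => ?_
  haveI := hc x
  haveI h1 := (isQCoh_HD_of_isPC (h x)).1 i hi
  haveI : Coh.IsQCoh (DCoh.HD ((resD (U x).ι).obj E) i) :=
    Groth.Agent.ImmPCLib.isQCoh_of_push (imm (U x) (φ x)) _ (@QCohLib.isQCoh_of_iso _ _ _
      ((Groth.Agent.DerLib.ExactHomology.homologyIso (Scheme.Modules.pushforward (imm (U x) (φ x))) i).app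
        ((resD (U x).ι).obj E)) h1)
  exact QCohLib.isQCoh_of_iso (Groth.Agent.PerfLib.resHDIso (U x).ι E i)

theorem exists_bound_of_rel [CompactSpace X] {m : ℤ} {E : DCoh.D X}
    (hE : DerSch.IsPseudoCoherentRel f m E) : ∃ b : ℤ, ∀ i, b < i → IsZero (DCoh.HD E i) := by
  have hloc : ∀ x : X, ∃ (U : X.Opens) (_ : x ∈ U) (b : ℤ),
      ∀ i, b < i → IsZero (DCoh.HD ((resD U.ι).obj E) i) := fun x => by
    obtain ⟨U, V, n, φ, hxU, hU, hc, h⟩ := exists_chart_at f hE x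
    haveI := hc
    obtain ⟨W, hW, b, hb⟩ := Groth.Agent.ImmPCLib.exists_bound h (imm U φ ⟨x, hxU⟩)
    obtain ⟨c⟩ := Groth.Agent.ImmPCLib.nonempty_resPush (imm U φ) W ((resD U.ι).obj E)
    let W' := imm U φ ⁻¹ᵁ W
    obtain ⟨d⟩ := Groth.Agent.PerfLib.nonempty_resD_comp W'.ι U.ι E
    obtain ⟨d'⟩ := Groth.Agent.PerfLib.nonempty_resD_comp (W'.ι ≫ U.ι).isoOpensRange.inv (W'.ι ≫ U.ι) E
    obtain ⟨d''⟩ := Groth.Agent.PerfLib.nonempty_resD_congr
      (Scheme.Hom.isoOpensRange_inv_comp (W'.ι ≫ U.ι)) E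
    refine ⟨(W'.ι ≫ U.ι).opensRange, ⟨⟨⟨x, hxU⟩, hW⟩, rfl⟩, b, fun i hi => ?_⟩
    have h0 : IsZero (DCoh.HD ((resD (W'.ι ≫ U.ι)).obj E) i) :=
      ((Groth.Agent.ImmPCLib.isZero_HD_push_iff (imm U φ ∣_ W) _ i).1
        ((hb i hi).of_iso ((DerivedCategory.homologyFunctor _ i).mapIso c).symm)).of_iso
        ((DerivedCategory.homologyFunctor _ i).mapIso d)
    exact (((res (W'.ι ≫ U.ι).isoOpensRange.inv).map_isZero h0).of_iso
      (Groth.Agent.PerfLib.resHDIso _ _ i)).of_iso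
      ((DerivedCategory.homologyFunctor _ i).mapIso (d'.symm ≪≫ d'')).symm
  choose U hxU b hb using hloc
  obtain ⟨t, ht⟩ := isCompact_univ.elim_finite_subcover (fun x => (U x : Set X)) (fun x => (U x).2)
    fun x _ => Set.mem_iUnion.2 ⟨x, hxU x⟩
  obtain ⟨B, hB⟩ := (t.image b).bddAbove
  refine ⟨B, fun i hi => KFlatLib.isZero_of_stalks fun y => ?_⟩
  obtain ⟨x, hxt, hyx⟩ := Set.mem_iUnion₂.1 (ht (Set.mem_univ y))
  have h0 : IsZero ((res (U x).ι).obj (DCoh.HD E i)) :=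
    (hb x i (lt_of_le_of_lt (hB (Finset.mem_image_of_mem b hxt)) hi)).of_iso
      (Groth.Agent.PerfLib.resHDIso (U x).ι E i).symm
  haveI := AddCommGrpCat.subsingleton_of_isZero
    (((Scheme.Modules.toPresheaf _ ⋙ TopCat.Presheaf.stalkFunctor AddCommGrpCat.{u}
      (⟨y, hyx⟩ : U x)).map_isZero h0))
  exact @Equiv.subsingleton _ _ ((Scheme.Modules.restrictStalkNatIso (U x).ι ⟨y, hyx⟩).app (DCoh.HD E i)).addCommGroupIsoToAddEquiv.symm.toEquiv this

theorem rel_triangle [LocallyOfFiniteType f] (T : Triangle (DCoh.D X)) (hT : T ∈ distTriang (DCoh.D X))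
    (m : ℤ) :
    (DerSch.IsPseudoCoherentRel f (m + 1) T.obj₁ → DerSch.IsPseudoCoherentRel f m T.obj₂ →
        DerSch.IsPseudoCoherentRel f m T.obj₃) ∧
      (DerSch.IsPseudoCoherentRel f m T.obj₁ → DerSch.IsPseudoCoherentRel f m T.obj₃ →
        DerSch.IsPseudoCoherentRel f m T.obj₂) ∧
      (DerSch.IsPseudoCoherentRel f (m + 1) T.obj₂ → DerSch.IsPseudoCoherentRel f m T.obj₃ →
        DerSch.IsPseudoCoherentRel f (m + 1) T.obj₁) := by
  refine ⟨fun h1 h2 => rel_of_charts f fun U V hU hV h n φ hφ hi => ?_,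
    fun h1 h3 => rel_of_charts f fun U V hU hV h n φ hφ hi => ?_,
    fun h2 h3 => rel_of_charts f fun U V hU hV h n φ hφ hi => ?_⟩
  all_goals
    have hT' := (pushD (imm U φ)).map_distinguished _ ((resD U.ι).map_distinguished T hT)
  · exact Groth.Agent.PerfLib.isPC_obj₃ _ hT' m (isPC_of_rel f h1 hU hV h φ hφ) (isPC_of_rel f h2 hU hV h φ hφ)
  · exact Groth.Agent.PerfLib.isPC_obj₂ _ hT' m (isPC_of_rel f h1 hU hV h φ hφ) (isPC_of_rel f h3 hU hV h φ hφ)
  · exact Groth.Agent.PerfLib.isPC_obj₁ _ hT' m (isPC_of_rel f h2 hU hV h φ hφ) (isPC_of_rel f h3 hU hV h φ hφ)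

theorem rel_of_iso {m : ℤ} {E K : DCoh.D X} (e : E ≅ K) (hE : DerSch.IsPseudoCoherentRel f m E) :
    DerSch.IsPseudoCoherentRel f m K :=
  haveI := hE.1
  rel_of_charts f fun U _ hU hV h _ φ hφ _ =>
    isPC_of_iso ((pushD (imm U φ)).mapIso ((resD U.ι).mapIso e)) (isPC_of_rel f hE hU hV h φ hφ)

theorem rel_summand {m : ℤ} {E K : DCoh.D X} [HasBinaryBiproduct E K]
    (hEK : DerSch.IsPseudoCoherentRel f m (E ⊞ K)) :
    DerSch.IsPseudoCoherentRel f m E ∧ DerSch.IsPseudoCoherentRel f m K := by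
  haveI := hEK.1
  constructor <;> refine rel_of_charts f fun U _ hU hV h _ φ hφ _ => ?_
  all_goals
    let T := resD U.ι ⋙ pushD (imm U φ)
    haveI := preservesBinaryBiproducts_of_preservesBiproducts T
  · exact Groth.Agent.PerfLib.isPC_summand m (T.obj K) (T.obj E)
      (isPC_of_iso (T.mapBiprod E K ≪≫ biprod.braiding _ _) (isPC_of_rel f hEK hU hV h φ hφ))
  · exact Groth.Agent.PerfLib.isPC_summand m (T.obj E) (T.obj K)
      (isPC_of_iso (T.mapBiprod E K) (isPC_of_rel f hEK hU hV h φ hφ))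

/-- The direct image on a chart of a module in degree zero. -/
noncomputable def pushInD {U : X.Opens} {A : Type u} [CommRing A] (ψ : A →+* Γ(X, U))
    [IsClosedImmersion (imm U ψ)] (M : X.Modules) :
    (pushD (imm U ψ)).obj ((resD U.ι).obj (DCoh.inD X M)) ≅
      DCoh.inD _ ((Scheme.Modules.pushforward (imm U ψ)).obj ((res U.ι).obj M)) :=
  (pushD (imm U ψ)).mapIso (((res U.ι).mapDerivedCategorySingleFunctor 0).app M) ≪≫
    ((Scheme.Modules.pushforward (imm U ψ)).mapDerivedCategorySingleFunctor 0).app _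

theorem rel_of_terms {m : ℤ} (F : CochainComplex X.Modules ℤ) (b : ℤ) (hb : ∀ i, b < i → IsZero (F.X i))
    (h : ∀ i, DerSch.IsPseudoCoherentRel f (m - i) (DCoh.inD X (F.X i))) :
    DerSch.IsPseudoCoherentRel f m (DCoh.toD X F) := by
  haveI := (h 0).1
  refine rel_of_charts f fun U _ hU hV hUV _ φ hφ hi => ?_
  let P := ((Scheme.Modules.pushforward (imm U φ)).mapHomologicalComplex (ComplexShape.up ℤ)).obj
    ((Groth.Agent.PerfLib.resC U.ι).obj F)
  refine isPC_of_iso (((Scheme.Modules.pushforward (imm U φ)).mapDerivedCategoryFactors.app _).symm ≪≫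
    (pushD (imm U φ)).mapIso (resDQIso U.ι F).symm)
    (isPC_of_terms m (b + 1 - m).toNat P (fun i hi => ?_) fun i =>
      isPC_of_iso (pushInD φ (F.X i)) (isPC_of_rel f (h i) hU hV hUV φ hφ))
  exact (Scheme.Modules.pushforward (imm U φ)).map_isZero
    ((res U.ι).map_isZero (hb i (by have := Int.self_le_toNat (b + 1 - m); omega)))

theorem rel_of_homology {m : ℤ} (E : DCoh.D X) (b : ℤ) (hb : ∀ i, b < i → IsZero (DCoh.HD E i))
    (h : ∀ i, DerSch.IsPseudoCoherentRel f (m - i) (DCoh.inD X (DCoh.HD E i))) :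
    DerSch.IsPseudoCoherentRel f m E := by
  haveI := (h 0).1
  refine rel_of_charts f fun U _ hU hV hUV _ φ hφ hi => ?_
  let e := fun i => (Groth.Agent.DerLib.ExactHomology.homologyIso
    (Scheme.Modules.pushforward (imm U φ)) i).app ((resD U.ι).obj E) ≪≫
      (Scheme.Modules.pushforward (imm U φ)).mapIso (Groth.Agent.PerfLib.resHDIso U.ι E i)
  refine isPC_of_homology m (b + 1 - m).toNat _ (fun i hi => ?_) fun i =>
    isPC_of_iso (pushInD φ _ ≪≫ (DerivedCategory.singleFunctor _ 0).mapIso (e i).symm)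
      (isPC_of_rel f (h i) hU hV hUV φ hφ)
  exact ((Scheme.Modules.pushforward (imm U φ)).map_isZero
    ((res U.ι).map_isZero (hb i (by have := Int.self_le_toNat (b + 1 - m); omega)))).of_iso (e i)

end Groth.Agent.RelPCSchLib
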