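import Groth.Agent.RelPCSchLib.Module
import Groth.Agent.PerfModLib.Hom
import Mathlib.RingTheory.TensorProduct.MvPolynomial
import Mathlib.AlgebraicGeometry.Morphisms.Flat
import Mathlib.AlgebraicGeometry.Morphisms.FinitePresentation

/-!
# Relative pseudo-coherence and pseudo-coherent morphisms of the base
-/

set_option autoImplicit false
set_option linter.style.haveILetI false
set_option backward.isDefEq.respectTransparency false
set_option backward.isDefEq.respectTransparency.types false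

universe u

open CategoryTheory CategoryTheory.Limits AlgebraicGeometry TopologicalSpace Opposite

attribute [local instance] HasDerivedCategory.standard

namespace Groth.Agent.RelPCSchLib

open Groth.Agent.PerfLib (resD res resDQIso isPC_of_iso)
open Groth.Agent.ImmPCLib (pushD lim_push colim_push)

attribute [local instance] lim_push colim_push

variable {X T S : Scheme.{u}} (a : X ⟶ T) (b : T ⟶ S)

/-- The base morphism has pseudo-coherent presentations on all affine pairs. -/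
def PHBase : Prop :=
  ∀ (W : T.Opens) (V : S.Opens), IsAffineOpen W → IsAffineOpen V → ∀ h : W ≤ b ⁻¹ᵁ V,
    ∃ (k : ℕ) (χ : MvPolynomial (Fin k) Γ(S, V) →+* Γ(T, W)), DerSch.IsChart b W V h χ ∧ RelPCLib.PH χ

theorem phBase_of_flat [Flat b] [LocallyOfFinitePresentation b] : PHBase b := by
  intro W V hW hV h
  letI := (b.appLE V W h).hom.toAlgebra
  haveI : Module.Flat Γ(S, V) Γ(T, W) := b.flat_appLE hV hW h
  haveI : Algebra.FinitePresentation Γ(S, V) Γ(T, W) := b.finitePresentation_appLE hV hW h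
  obtain ⟨⟨k, χ, hχ, hpc⟩, -⟩ := PerfModLib.isPerfectHom_of_flat (A := Γ(S, V)) (B := Γ(T, W))
  refine ⟨k, χ.toRingHom, ⟨hχ, χ.comp_algebraMap⟩, ?_⟩
  letI := χ.toRingHom.toAlgebra
  exact RelPCLib.ph_of_isPCModule (DRingLib.isPseudoCoherent'_iff_forall.1 hpc)

theorem map_ph {P Q : Type u} [CommRing P] [CommRing Q] (χ : P →+* Q) (h : RelPCLib.PH χ) (σ : Type) :
    RelPCLib.PH (MvPolynomial.map (σ := σ) χ) := by
  letI := χ.toAlgebra
  letI : Algebra (MvPolynomial σ P) (MvPolynomial σ Q) := MvPolynomial.algebraMvPolynomial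
  exact RelPCLib.ph_of_isPushout (P := P) (Q := Q) (P' := MvPolynomial σ P) (Q' := MvPolynomial σ Q) h

/-- Composing with a pseudo-coherent base. -/
theorem rpc_comp_iff [LocallyOfFiniteType a] [LocallyOfFiniteType b] (hb : PHBase b) {m : ℤ}
    {E : DCoh.D X} {U : X.Opens} (hU : IsAffineOpen U) {W : T.Opens} (hW : IsAffineOpen W)
    {V : S.Opens} (hV : IsAffineOpen V) (h₁ : U ≤ a ⁻¹ᵁ W) (h₂ : W ≤ b ⁻¹ᵁ V)
    (h : U ≤ (a ≫ b) ⁻¹ᵁ V) : RPC (a ≫ b) m E U V h ↔ RPC a m E U W h₁ := by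
  obtain ⟨k, χ, hχ, hph⟩ := hb W V hW hV h₂
  obtain ⟨n, ψ, hψ⟩ := exists_isChart a hU hW h₁
  let e := MvPolynomial.sumAlgEquiv Γ(S, V) (Fin n) (Fin k)
  let π : MvPolynomial (Fin n ⊕ Fin k) Γ(S, V) →+* MvPolynomial (Fin n) Γ(T, W) :=
    (MvPolynomial.map χ).comp e.toRingEquiv.toRingHom
  have hπs : Function.Surjective π := (MvPolynomial.map_surjective χ hχ.1).comp e.surjective
  have hπ : RelPCLib.PH π := (RelPCLib.ph_of_bijective _ e.bijective).comp (map_ph χ hph _)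
  have hC : (ψ.comp π).comp MvPolynomial.C = ((a ≫ b).appLE V U h).hom := by
    refine RingHom.ext fun r => ?_
    change ψ (MvPolynomial.map χ (e (MvPolynomial.C r))) = _
    rw [MvPolynomial.sumAlgEquiv_C_inl, MvPolynomial.map_C]
    refine (RingHom.congr_fun hψ.2 _).trans ?_
    rw [show χ (MvPolynomial.C r) = b.appLE V W h₂ r from RingHom.congr_fun hχ.2 r,
      ← Scheme.Hom.appLE_comp_appLE a b V W U h₂ h₁]
    rfl
  have key := cpc_comp hπs hπ hU (ψ := ψ) hψ.1 m E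
  exact ⟨fun hr => rpc_of_cpc a hU ψ hψ.1 hψ.2
      (key.1 (cpc_of_rpc (a ≫ b) hU hV hr _ (hψ.1.comp hπs) hC)),
    fun hr => rpc_of_cpc (a ≫ b) hU _ (hψ.1.comp hπs) hC (key.2 (hr n ψ hψ))⟩

/-- A criterion on enough pairs. -/
theorem rel_of_pairs [LocallyOfFiniteType a] {m : ℤ} {E : DCoh.D X} (good : Set T.affineOpens)
    (hgood : ∀ t : T, ∃ W ∈ good, t ∈ (W : T.Opens))
    (hr : ∀ W ∈ good, ∀ x : X, a x ∈ (W : T.Opens) → ∃ (U : X.Opens) (_ : IsAffineOpen U)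
      (h : U ≤ a ⁻¹ᵁ (W : T.Opens)), x ∈ U ∧ RPC a m E U W h) :
    DerSch.IsPseudoCoherentRel a m E := by
  refine ⟨inferInstance, good, eq_top_iff.2 fun t _ => ?_, fun W hW =>
    ⟨{U | ∃ h : (U : X.Opens) ≤ a ⁻¹ᵁ (W : T.Opens), RPC a m E U (W : T.Opens) h}, ?_,
      fun U hU h => exists_chart_of_rpc a U.2 W.2 h hU.2⟩⟩
  · obtain ⟨W, hW, ht⟩ := hgood t
    exact Opens.mem_iSup.2 ⟨W, Opens.mem_iSup.2 ⟨hW, ht⟩⟩
  · refine le_antisymm (iSup₂_le fun U hU => hU.1) fun x hx => ?_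
    obtain ⟨U, hU, h, hxU, hUr⟩ := hr W hW x hx
    exact Opens.mem_iSup.2 ⟨⟨U, hU⟩, Opens.mem_iSup.2 ⟨⟨h, hUr⟩, hxU⟩⟩

theorem rel_comp_iff [LocallyOfFiniteType a] [LocallyOfFiniteType b] (hb : PHBase b) (m : ℤ)
    (E : DCoh.D X) :
    DerSch.IsPseudoCoherentRel (a ≫ b) m E ↔ DerSch.IsPseudoCoherentRel a m E := by
  constructor
  · intro hE
    refine rel_of_pairs a {W | ∃ (V : S.affineOpens), (W : T.Opens) ≤ b ⁻¹ᵁ (V : S.Opens)} ?_ ?_
    · intro t
      obtain ⟨_, ⟨V, hV, rfl⟩, htV, -⟩ :=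
        S.isBasis_affineOpens.exists_subset_of_mem_open (Set.mem_univ (b t)) isOpen_univ
      obtain ⟨_, ⟨W, hW, rfl⟩, htW, hWV⟩ :=
        T.isBasis_affineOpens.exists_subset_of_mem_open (show t ∈ b ⁻¹ᵁ V from htV) (b ⁻¹ᵁ V).2
      exact ⟨⟨W, hW⟩, ⟨⟨V, hV⟩, hWV⟩, htW⟩
    · rintro W ⟨V, hWV⟩ x hx
      obtain ⟨_, ⟨U, hU, rfl⟩, hxU, hUW⟩ :=
        X.isBasis_affineOpens.exists_subset_of_mem_open (show x ∈ a ⁻¹ᵁ (W : T.Opens) from hx)
          (a ⁻¹ᵁ (W : T.Opens)).2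
      exact ⟨U, hU, hUW, hxU, (rpc_comp_iff a b hb hU W.2 V.2 hUW hWV (fun y hy => hWV (hUW hy))).1
        (rpc_of_rel (a ≫ b) hE hU V.2 _)⟩
  · intro hE
    refine rel_of_pairs (a ≫ b) Set.univ ?_ ?_
    · intro t
      obtain ⟨_, ⟨V, hV, rfl⟩, htV, -⟩ :=
        S.isBasis_affineOpens.exists_subset_of_mem_open (Set.mem_univ t) isOpen_univ
      exact ⟨⟨V, hV⟩, trivial, htV⟩
    · intro V _ x hx
      obtain ⟨_, ⟨W, hW, rfl⟩, hxW, hWV⟩ := T.isBasis_affineOpens.exists_subset_of_mem_open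
        (show a x ∈ b ⁻¹ᵁ (V : S.Opens) from hx) (b ⁻¹ᵁ (V : S.Opens)).2
      obtain ⟨_, ⟨U, hU, rfl⟩, hxU, hUW⟩ :=
        X.isBasis_affineOpens.exists_subset_of_mem_open (show x ∈ a ⁻¹ᵁ W from hxW) (a ⁻¹ᵁ W).2
      exact ⟨U, hU, fun y hy => hWV (hUW hy), hxU,
        (rpc_comp_iff a b hb hU hW V.2 hUW hWV (fun y hy => hWV (hUW hy))).2
          (rpc_of_rel a hE hU hW hUW)⟩

/-- Pseudo-coherence of the structure sheaf relative to the morphism gives pseudo-coherent presentations. -/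
theorem phBase_of_nPC [LocallyOfFiniteType b] (hb : ∀ n : ℤ, DerSch.IsNPseudoCoherent b n) :
    PHBase b := by
  intro W V hW hV h
  obtain ⟨k, χ, hχ⟩ := exists_isChart b hW hV h
  refine ⟨k, χ, hχ, fun n => ?_⟩
  let A := T.presheaf.obj (op W)
  haveI : PreservesFiniteLimits (tilde.functor A) := FlatRelPCLib.tildeExact A
  have hMod : FlatRelPCLib.Mod (DCoh.toD T (DerSch.unitCx T)) hW (Dual.inD Γ(T, W) Γ(T, W)) :=
    ⟨((tilde.functor A).mapDerivedCategorySingleFunctor 0).app (ModuleCat.of A A) ≪≫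
      (DerivedCategory.singleFunctor _ 0).mapIso
        (tildeSelf ≪≫ (Scheme.Modules.restrictUnitIso hW.fromSpec).symm) ≪≫
      (((res hW.fromSpec).mapDerivedCategorySingleFunctor 0).app (Coh.structureModule T)).symm ≪≫
      (resD hW.fromSpec).mapIso ((DerivedCategory.singleFunctorIsoCompQ T.Modules 0).app _)⟩
  exact (FlatRelPCLib.chartPC_iff hW χ hχ.1 hMod n).1
    ((chartPC_iff n _ hW V χ hχ.1).2 (rpc_of_rel b (hb n) hW hV h k χ hχ))

end Groth.Agent.RelPCSchLib
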