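import Groth.Agent.RelPCSchLib.Main

/-!
# Relative pseudo-coherence and open subschemes
-/

set_option autoImplicit false
set_option linter.style.haveILetI false
set_option backward.isDefEq.respectTransparency false
set_option backward.isDefEq.respectTransparency.types false

universe u

open CategoryTheory CategoryTheory.Limits AlgebraicGeometry TopologicalSpace Opposite

attribute [local instance] HasDerivedCategory.standard

namespace Groth.Agent.RelPCSchLib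

open Groth.Agent.PerfLib (resD isPC_of_iso)
open Groth.Agent.ImmPCLib (pushD lim_push colim_push)

attribute [local instance] lim_push colim_push

variable {X' X S : Scheme.{u}} (k : X' ⟶ X) [IsOpenImmersion k]

theorem imm_transport (W : X'.Opens) {A : Type u} [CommRing A] (φ : A →+* Γ(X, k ''ᵁ W)) :
    imm W ((k.appIso W).hom.hom.comp φ) = (k.isoImage W).hom ≫ imm (k ''ᵁ W) φ := by
  let ψ : CommRingCat.of A ⟶ Γ(X, k ''ᵁ W) := CommRingCat.ofHom φ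
  change W.toSpecΓ ≫ Spec.map (ψ ≫ (k.appIso W).hom) = (k.isoImage W).hom ≫ (k ''ᵁ W).toSpecΓ ≫ Spec.map ψ
  have h : W.toSpecΓ ≫ Spec.map (k.appIso W).hom = (k.isoImage W).hom ≫ (k ''ᵁ W).toSpecΓ := by
    rw [Scheme.Hom.appIso_hom', Scheme.Opens.toSpecΓ_SpecMap_appLE]
    congr 1
    rw [← cancel_mono (k ''ᵁ W).ι]
    simp
  rw [Spec.map_comp, ← Category.assoc, h, Category.assoc]

theorem nonempty_push_id {U : Scheme.{u}} (F : DCoh.D U) : Nonempty ((pushD (𝟙 U)).obj F ≅ F) := by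
  obtain ⟨r⟩ := TildePCLib.nonempty_resD_id F
  obtain ⟨f⟩ := nonempty_res_iso (𝟙 U) F
  obtain ⟨c⟩ := nonempty_push_congr (IsIso.inv_id (X := U)) F
  exact ⟨c.symm ≪≫ f.symm ≪≫ r⟩

theorem nonempty_push_res_iso {O U : Scheme.{u}} (ε : O ⟶ U) [IsIso ε] (F : DCoh.D U) :
    Nonempty ((pushD ε).obj ((resD ε).obj F) ≅ F) := by
  obtain ⟨f⟩ := nonempty_res_iso ε F
  obtain ⟨g⟩ := nonempty_push_comp (inv ε) ε F
  obtain ⟨h⟩ := nonempty_push_congr (IsIso.inv_hom_id ε) F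
  obtain ⟨i⟩ := nonempty_push_id F
  exact ⟨(pushD ε).mapIso f ≪≫ g ≪≫ h ≪≫ i⟩

theorem nonempty_push_iso_comp {O U P Y : Scheme.{u}} {ε : O ⟶ U} [IsIso ε] {j : U ⟶ P} [IsClosedImmersion j]
    {j' : O ⟶ P} [IsClosedImmersion j'] {o : O ⟶ Y} [IsOpenImmersion o] {o' : U ⟶ Y} [IsOpenImmersion o']
    (hj : j' = ε ≫ j) (ho : o = ε ≫ o') (E : DCoh.D Y) :
    Nonempty ((pushD j').obj ((resD o).obj E) ≅ (pushD j).obj ((resD o').obj E)) := by
  subst hj ho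
  obtain ⟨b⟩ := nonempty_push_comp ε j ((resD (ε ≫ o')).obj E)
  obtain ⟨e⟩ := Groth.Agent.PerfLib.nonempty_resD_comp ε o' E
  obtain ⟨r⟩ := nonempty_push_res_iso ε ((resD o').obj E)
  exact ⟨b.symm ≪≫ (pushD j).mapIso ((pushD ε).mapIso e ≪≫ r)⟩

/-- The test on an open of an open subscheme. -/
theorem cpc_transport_iff (W : X'.Opens) (hW : IsAffineOpen (k ''ᵁ W)) {A : Type u} [CommRing A]
    (φ : A →+* Γ(X, k ''ᵁ W)) (hφ : Function.Surjective φ) (m : ℤ) (E : DCoh.D X) :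
    CPC m ((resD k).obj E) W ((k.appIso W).hom.hom.comp φ) ↔ CPC m E (k ''ᵁ W) φ := by
  haveI := isClosedImmersion_imm hW hφ
  have heq := imm_transport k W φ
  haveI : IsClosedImmersion (imm W ((k.appIso W).hom.hom.comp φ)) := by rw [heq]; infer_instance
  obtain ⟨c⟩ := Groth.Agent.PerfLib.nonempty_resD_comp W.ι k E
  obtain ⟨t⟩ := nonempty_push_iso_comp heq
    (show W.ι ≫ k = (k.isoImage W).hom ≫ (k ''ᵁ W).ι by simp) E
  let tot := (pushD (imm W ((k.appIso W).hom.hom.comp φ))).mapIso c.symm ≪≫ t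
  exact ⟨fun hp _ => isPC_of_iso tot (hp inferInstance), fun hp _ => isPC_of_iso tot.symm (hp inferInstance)⟩

variable (f : X ⟶ S)

theorem appIso_comp_chart (W : X'.Opens) {V : S.Opens} (h : W ≤ (k ≫ f) ⁻¹ᵁ V)
    (h' : k ''ᵁ W ≤ f ⁻¹ᵁ V) {n : ℕ} (φ : MvPolynomial (Fin n) Γ(S, V) →+* Γ(X, k ''ᵁ W)) :
    DerSch.IsChart f (k ''ᵁ W) V h' φ → DerSch.IsChart (k ≫ f) W V h ((k.appIso W).hom.hom.comp φ) := by
  intro hφ
  refine ⟨(ConcreteCategory.bijective_of_isIso (k.appIso W).hom).surjective.comp hφ.1, ?_⟩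
  rw [RingHom.comp_assoc, hφ.2, ← CommRingCat.hom_comp, Scheme.Hom.appIso_hom',
    Scheme.Hom.appLE_comp_appLE]

theorem image_le_preimage (W : X'.Opens) {V : S.Opens} (h : W ≤ (k ≫ f) ⁻¹ᵁ V) :
    k ''ᵁ W ≤ f ⁻¹ᵁ V := by
  rintro _ ⟨w, hw, rfl⟩
  exact h hw

/-- Restriction to an open subscheme. -/
theorem rel_res {m : ℤ} {E : DCoh.D X} (hE : DerSch.IsPseudoCoherentRel f m E) :
    DerSch.IsPseudoCoherentRel (k ≫ f) m ((resD k).obj E) := by
  haveI := hE.1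
  refine rel_of_rpc (k ≫ f) fun W V h => ?_
  have hW : IsAffineOpen (k ''ᵁ (W : X'.Opens)) := W.2.image_of_isOpenImmersion k
  have h' := image_le_preimage k f _ h
  obtain ⟨n, φ, hφ⟩ := exists_isChart f hW V.2 h'
  have hc := appIso_comp_chart k f _ h h' φ hφ
  exact rpc_of_cpc (k ≫ f) W.2 _ hc.1 hc.2
    ((cpc_transport_iff k _ hW φ hφ.1 m E).2 (rpc_of_rel f hE hW V.2 h' n φ hφ))

/-- Gluing over an open cover. -/
theorem rel_of_cover [LocallyOfFiniteType f] {m : ℤ} {E : DCoh.D X} {ι : Type*} (U : ι → X.Opens)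
    (hU : ∀ x : X, ∃ i, x ∈ U i)
    (h : ∀ i, DerSch.IsPseudoCoherentRel ((U i).ι ≫ f) m ((resD (U i).ι).obj E)) :
    DerSch.IsPseudoCoherentRel f m E := by
  refine rel_of_rpc f fun Y V hYV => rpc_of_basic_cover f Y.2 V.2 hYV ?_
  rintro ⟨x, hx⟩
  obtain ⟨i, hi⟩ := hU x
  obtain ⟨g, hg, hxg⟩ := Y.2.exists_basicOpen_le (V := U i) ⟨x, hi⟩ hx
  refine ⟨g, hxg, ?_⟩
  let W : (U i : Scheme.{u}).Opens := (U i).ι ⁻¹ᵁ X.basicOpen g
  have hWeq : (U i).ι ''ᵁ W = X.basicOpen g := by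
    rw [(U i).ι.image_preimage_eq_opensRange_inf, Scheme.Opens.opensRange_ι, inf_eq_right.2 hg]
  have key : ∀ (O : X.Opens), (U i).ι ''ᵁ W = O → ∀ hO : O ≤ f ⁻¹ᵁ (V : S.Opens), IsAffineOpen O →
      RPC f m E O V hO := by
    rintro O rfl hO hOa n φ hφ
    have hW : IsAffineOpen W := ((U i).ι.isAffineOpen_iff_of_isOpenImmersion).1 hOa
    have hle : W ≤ ((U i).ι ≫ f) ⁻¹ᵁ (V : S.Opens) := fun w hw => hO ⟨w, hw, rfl⟩
    exact (cpc_transport_iff (U i).ι W hOa φ hφ.1 m E).1 (rpc_of_rel ((U i).ι ≫ f) (h i) hW V.2 hle n _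
      (appIso_comp_chart (U i).ι f W hle hO φ hφ))
  exact key _ hWeq _ (Y.2.basicOpen g)

end Groth.Agent.RelPCSchLib
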