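import Groth.Agent.RelPCSchLib.Comp
import Groth.Agent.RelPCSchLib.Transport

/-!
# Relative pseudo-coherence along a closed immersion
-/

set_option autoImplicit false
set_option linter.style.haveILetI false
set_option backward.isDefEq.respectTransparency false
set_option backward.isDefEq.respectTransparency.types false

universe u

open CategoryTheory CategoryTheory.Limits AlgebraicGeometry TopologicalSpace Opposite

attribute [local instance] HasDerivedCategory.standard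

namespace Groth.Agent.RelPCSchLib

open Groth.Agent.PerfLib (resD res resDQIso isPC_of_iso)
open Groth.Agent.ImmPCLib (pushD lim_push colim_push)

attribute [local instance] lim_push colim_push

variable {X P : Scheme.{u}} (i : X ⟶ P) [IsClosedImmersion i]

/-- The obvious chart over an affine open of the target. -/
theorem rpc_immersion_iff (m : ℤ) (E : DCoh.D X) {W : P.Opens} (hW : IsAffineOpen W) :
    RPC i m E (i ⁻¹ᵁ W) W le_rfl ↔ DCoh.IsPseudoCoherentD m ((resD W.ι).obj ((pushD i).obj E)) := by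
  have hU : IsAffineOpen (i ⁻¹ᵁ W) := hW.preimage i
  let φ : MvPolynomial (Fin 0) Γ(P, W) →+* Γ(X, i ⁻¹ᵁ W) :=
    (i.app W).hom.comp (MvPolynomial.aeval Fin.elim0 : MvPolynomial (Fin 0) Γ(P, W) →ₐ[Γ(P, W)] _).toRingHom
  let ε : MvPolynomial (Fin 0) Γ(P, W) →+* Γ(P, W) :=
    (MvPolynomial.aeval Fin.elim0 : MvPolynomial (Fin 0) Γ(P, W) →ₐ[Γ(P, W)] _).toRingHom
  have hε : Function.Surjective ε := fun r => ⟨MvPolynomial.C r, MvPolynomial.aeval_C _ _⟩
  have hφ : Function.Surjective φ := (i.app_surjective W hW).comp hε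
  have hC : φ.comp MvPolynomial.C = (i.appLE W (i ⁻¹ᵁ W) le_rfl).hom := RingHom.ext fun r => by
    change i.app W (MvPolynomial.aeval Fin.elim0 (MvPolynomial.C r)) = _
    rw [MvPolynomial.aeval_C, Scheme.Hom.app_eq_appLE]
    rfl
  haveI : IsIso W.toSpecΓ := hW.isoSpec_hom ▸ inferInstance
  have key : RPC i m E (i ⁻¹ᵁ W) W le_rfl ↔ CPC m E (i ⁻¹ᵁ W) (i.app W).hom := by
    refine Iff.trans ⟨fun hr => ?_, fun hc => rpc_of_cpc i hU φ hφ hC hc⟩
      (cpc_comp hε (RelPCLib.ph_aeval _) hU (i.app_surjective W hW) m E)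
    exact cpc_of_rpc i hU hW hr φ hφ hC
  rw [key]
  haveI := isClosedImmersion_imm hU (i.app_surjective W hW)
  have heq : imm (i ⁻¹ᵁ W) (i.app W).hom = i ∣_ W ≫ W.toSpecΓ :=
    Scheme.Opens.toSpecΓ_naturality i W
  haveI := IsClosedImmersion.comp (i ∣_ W) W.toSpecΓ
  obtain ⟨a⟩ := nonempty_push_congr heq ((resD (i ⁻¹ᵁ W).ι).obj E)
  obtain ⟨c⟩ := Groth.Agent.ImmPCLib.nonempty_resPush i W E
  let K := (pushD (i ∣_ W)).obj ((resD (i ⁻¹ᵁ W).ι).obj E)
  obtain ⟨b⟩ := nonempty_push_comp (i ∣_ W) W.toSpecΓ ((resD (i ⁻¹ᵁ W).ι).obj E)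
  obtain ⟨r⟩ := nonempty_res_iso (inv W.toSpecΓ) K
  obtain ⟨r'⟩ := nonempty_push_congr (IsIso.inv_inv (f := W.toSpecΓ)) K
  constructor
  · intro h
    obtain ⟨t⟩ := Groth.Agent.PerfLib.nonempty_resD_comp W.toSpecΓ (inv W.toSpecΓ) K
    obtain ⟨t'⟩ := Groth.Agent.PerfLib.nonempty_resD_congr (IsIso.hom_inv_id W.toSpecΓ) K
    obtain ⟨t''⟩ := TildePCLib.nonempty_resD_id K
    exact isPC_of_iso ((t.symm ≪≫ t' ≪≫ t'') ≪≫ c.symm) (Groth.Agent.PerfLib.isPC_res
      (isPC_of_iso (a ≪≫ b.symm ≪≫ r'.symm ≪≫ r.symm) (h inferInstance)) W.toSpecΓ)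
  · intro h _
    exact isPC_of_iso (r ≪≫ r' ≪≫ b ≪≫ a.symm)
      (Groth.Agent.PerfLib.isPC_res (isPC_of_iso c h) (inv W.toSpecΓ))

/-- Relative to a closed immersion, pseudo-coherence is that of the direct image. -/
theorem rel_immersion_iff (m : ℤ) (E : DCoh.D X) :
    DerSch.IsPseudoCoherentRel i m E ↔ DCoh.IsPseudoCoherentD m ((pushD i).obj E) := by
  constructor
  · intro hE
    refine Groth.Agent.PerfLib.isPC_local fun y => ?_
    obtain ⟨_, ⟨W, hW, rfl⟩, hyW, -⟩ :=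
      P.isBasis_affineOpens.exists_subset_of_mem_open (Set.mem_univ y) isOpen_univ
    exact ⟨(W : P.Opens), Scheme.Opens.ι W, inferInstance, ⟨y, hyW⟩, rfl,
      (rpc_immersion_iff i m E hW).1 (rpc_of_rel i hE (hW.preimage i) hW le_rfl)⟩
  · intro h
    refine rel_of_pairs i Set.univ (fun t => ?_) fun W _ x hx =>
      ⟨_, W.2.preimage i, le_rfl, hx, (rpc_immersion_iff i m E W.2).2 (Groth.Agent.PerfLib.isPC_res h _)⟩
    obtain ⟨_, ⟨W, hW, rfl⟩, htW, -⟩ :=
      P.isBasis_affineOpens.exists_subset_of_mem_open (Set.mem_univ t) isOpen_univ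
    exact ⟨⟨W, hW⟩, trivial, htW⟩

/-- Composites with a flat finitely presented morphism. -/
theorem rel_immersion_comp_iff {S : Scheme.{u}} (g : P ⟶ S) [Flat g] [LocallyOfFinitePresentation g]
    (m : ℤ) (F : CochainComplex X.Modules ℤ) :
    (DerSch.IsPseudoCoherentRel (i ≫ g) m (DCoh.toD X F) ↔
        DCoh.IsPseudoCoherentD m (DCoh.toD P ((DerSch.pushCx i).obj F))) ∧
      (DerSch.IsPseudoCoherentRel g m (DCoh.toD P ((DerSch.pushCx i).obj F)) ↔
        DCoh.IsPseudoCoherentD m (DCoh.toD P ((DerSch.pushCx i).obj F))) := by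
  obtain ⟨e⟩ := Groth.Agent.ImmPCLib.pushD_toD i F
  refine ⟨?_, ?_⟩
  · rw [rel_comp_iff i g (phBase_of_flat g) m, rel_immersion_iff]
    exact ⟨fun h => isPC_of_iso e h, fun h => isPC_of_iso e.symm h⟩
  · let K := DCoh.toD P ((DerSch.pushCx i).obj F)
    change DerSch.IsPseudoCoherentRel g m K ↔ DCoh.IsPseudoCoherentD m K
    have h1 := rel_comp_iff (𝟙 P) g (phBase_of_flat g) m K
    rw [Category.id_comp] at h1
    rw [h1, rel_immersion_iff]
    obtain ⟨c⟩ := nonempty_push_id K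
    exact ⟨fun h => isPC_of_iso c h, fun h => isPC_of_iso c.symm h⟩

end Groth.Agent.RelPCSchLib
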