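import Groth.Agent.RelPCSchLib.BaseChange
import Groth.Agent.PerfModLib.Desc

/-!
# Local criterion and faithfully flat descent of `n`-pseudo-coherence
-/

set_option autoImplicit false
set_option linter.style.haveILetI false
set_option backward.isDefEq.respectTransparency false
set_option backward.isDefEq.respectTransparency.types false

universe u

open CategoryTheory CategoryTheory.Limits AlgebraicGeometry TopologicalSpace Opposite
open scoped TensorProduct

attribute [local instance] HasDerivedCategory.standard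

namespace Groth.Agent.RelPCSchLib

section

variable {X S : Scheme.{u}} (f : X ⟶ S)

/-- One pair around every point gives the test on every pair. -/
theorem rpc_of_points [LocallyOfFiniteType f] {m : ℤ} {E : DCoh.D X}
    (hE : ∀ x : X, ∃ (U : X.Opens) (_ : IsAffineOpen U) (V : S.Opens) (_ : IsAffineOpen V)
      (h : U ≤ f ⁻¹ᵁ V), x ∈ U ∧ RPC f m E U V h) {U : X.Opens}
    (hU : IsAffineOpen U) {V : S.Opens} (hV : IsAffineOpen V) (h : U ≤ f ⁻¹ᵁ V) : RPC f m E U V h := by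
  refine rpc_of_basic_cover f hU hV h ?_
  rintro ⟨x, hx⟩
  obtain ⟨U', hU'a, V', hV'a, h'', hxU', hr'⟩ := hE x
  have hfx' : f x ∈ V' := h'' hxU'
  obtain ⟨a, a', haa, hfa⟩ := exists_basicOpen_le_affine_inter hV hV'a (f x) ⟨h hx, hfx'⟩
  obtain ⟨g₁, g₁', hgg, hxg₁⟩ := exists_basicOpen_le_affine_inter hU hU'a x ⟨hx, hxU'⟩
  obtain ⟨g₂, hg₂, hxg₂⟩ := hU.exists_basicOpen_le
    (V := X.basicOpen g₁ ⊓ f ⁻¹ᵁ S.basicOpen a) ⟨x, hxg₁, hfa⟩ hx
  obtain ⟨g', hg'⟩ := hU'a.basicOpen_basicOpen_is_basicOpen g₁'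
    (X.presheaf.map (homOfLE (show X.basicOpen g₁' ≤ U from hgg ▸ X.basicOpen_le g₁)).op g₂)
  have hg'2 : X.basicOpen g₂ = X.basicOpen g' := by
    rw [hg', Scheme.basicOpen_res, ← hgg, inf_eq_right.2 (hg₂.trans inf_le_left)]
  refine ⟨g₂, hxg₂, ?_⟩
  have hW : X.basicOpen g₂ ≤ f ⁻¹ᵁ S.basicOpen a := hg₂.trans inf_le_right
  have hV'2 : X.basicOpen g₂ ≤ f ⁻¹ᵁ V' :=
    hW.trans ((Opens.map f.base).map (homOfLE (haa ▸ S.basicOpen_le a'))).le
  exact (rpc_basic_target_iff f (hU.basicOpen g₂) hV a rfl _ hW).1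
    ((rpc_basic_target_iff f (hU.basicOpen g₂) hV'a a' haa hV'2 hW).2
      (rpc_basic_source f hU'a (hU.basicOpen g₂) g' hg'2 hV'a h'' hV'2 hr'))

/-- One pair around every point gives the relative notion. -/
theorem rel_of_points [LocallyOfFiniteType f] {m : ℤ} {E : DCoh.D X}
    (hE : ∀ x : X, ∃ (U : X.Opens) (_ : IsAffineOpen U) (V : S.Opens) (_ : IsAffineOpen V)
      (h : U ≤ f ⁻¹ᵁ V), x ∈ U ∧ RPC f m E U V h) : DerSch.IsPseudoCoherentRel f m E :=
  rel_of_rpc f fun U V h => rpc_of_points f hE U.2 V.2 h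

end

theorem phAt_descent {P Q P' Q' : Type u} [CommRing P] [CommRing Q] [CommRing P'] [CommRing Q']
    [Algebra P Q] [Algebra P P'] [Algebra Q Q'] [Algebra P' Q'] [Algebra P Q'] [IsScalarTower P Q Q']
    [IsScalarTower P P' Q'] [Algebra.IsPushout P P' Q Q'] [Module.FaithfullyFlat P P'] {k : ℤ}
    (h : PHAt (algebraMap P' Q') k) : PHAt (algebraMap P Q) k := by
  have h3 : DRing.IsPseudoCoherentModule P' k Q' := DRingLib.isPseudoCoherent_of_iso
    (RelPCLib.restrictInD (algebraMap P' Q') (ModuleCat.of Q' Q') ≪≫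
      (DerivedCategory.singleFunctor (ModuleCat.{u} P') 0).mapIso
        (LinearEquiv.toModuleIso ({ AddEquiv.refl Q' with map_smul' := fun r x => Algebra.smul_def r x } :
          Q' ≃ₗ[P'] ((ModuleCat.restrictScalars.{u} (algebraMap P' Q')).obj (ModuleCat.of Q' Q')))).symm) h
  have h2 := DRingLib.isPseudoCoherentModule_of_equiv
    (Algebra.IsPushout.equiv P P' Q Q').toLinearEquiv.symm h3
  have h1 : DRing.IsPseudoCoherentModule P k Q := DRingLib.isPseudoCoherent_of_iso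
    ((DerivedCategory.singleFunctorIsoCompQ (ModuleCat.{u} P) 0).app (ModuleCat.of P Q)).symm
    (DRingLib.isPseudoCoherent_of_family (S := fun _ : Unit => P')
      (DRingLib.detectsZero_of_faithfullyFlat (fun _ : Unit => P') Unit.unit)
      ((HomologicalComplex.single (ModuleCat.{u} P) (ComplexShape.up ℤ) 0).obj (ModuleCat.of P Q)) k
      fun _ => DRingLib.isPseudoCoherent_of_iso (DRingLib.extCxSingleIso Q).symm h2)
  exact DRingLib.isPseudoCoherent_of_iso
    ((DerivedCategory.singleFunctor (ModuleCat.{u} P) 0).mapIso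
        (LinearEquiv.toModuleIso ({ AddEquiv.refl Q with map_smul' := fun r x => Algebra.smul_def r x } :
          Q ≃ₗ[P] ((ModuleCat.restrictScalars.{u} (algebraMap P Q)).obj (ModuleCat.of Q Q)))) ≪≫
      (RelPCLib.restrictInD (algebraMap P Q) (ModuleCat.of Q Q)).symm) h1

/-- Descent of a presentation along a faithfully flat map. -/
theorem phAt_descent_pres {R R' Q Q' : Type u} [CommRing R] [CommRing R'] [CommRing Q] [CommRing Q']
    [Algebra R R'] [Algebra R Q] [Algebra R Q'] [Algebra R' Q'] [Algebra Q Q'] [IsScalarTower R Q Q']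
    [IsScalarTower R R' Q'] [Algebra.IsPushout R Q R' Q'] [Module.FaithfullyFlat R R'] {n : ℕ} {k : ℤ}
    (φ : MvPolynomial (Fin n) R →ₐ[R] Q) (hφ : Function.Surjective φ) (h : ∀ φ' : MvPolynomial (Fin n) R' →ₐ[R'] Q', Function.Surjective φ' → PHAt φ'.toRingHom k) :
    PHAt φ.toRingHom k := by
  let φ' : MvPolynomial (Fin n) R' →ₐ[R'] Q' :=
    MvPolynomial.aeval fun i => algebraMap Q Q' (φ (MvPolynomial.X i))
  letI : Algebra (MvPolynomial (Fin n) R) Q := φ.toRingHom.toAlgebra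
  letI : Algebra (MvPolynomial (Fin n) R') Q' := φ'.toRingHom.toAlgebra
  letI : Algebra (MvPolynomial (Fin n) R) (MvPolynomial (Fin n) R') := MvPolynomial.algebraMvPolynomial
  letI : Algebra (MvPolynomial (Fin n) R) Q' :=
    (φ'.toRingHom.comp (MvPolynomial.map (algebraMap R R'))).toAlgebra
  haveI : IsScalarTower R (MvPolynomial (Fin n) R) Q :=
    IsScalarTower.of_algebraMap_eq fun r => (φ.commutes r).symm
  haveI : IsScalarTower R' (MvPolynomial (Fin n) R') Q' :=
    IsScalarTower.of_algebraMap_eq fun r => (φ'.commutes r).symm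
  haveI : IsScalarTower (MvPolynomial (Fin n) R) (MvPolynomial (Fin n) R') Q' :=
    IsScalarTower.of_algebraMap_eq fun _ => rfl
  haveI : IsScalarTower (MvPolynomial (Fin n) R) Q Q' := by
    refine IsScalarTower.of_algebraMap_eq' (MvPolynomial.ringHom_ext (fun r => ?_) fun i => ?_)
    · change φ' (MvPolynomial.map (algebraMap R R') (MvPolynomial.C r)) =
        algebraMap Q Q' (φ (MvPolynomial.C r))
      rw [MvPolynomial.map_C, ← MvPolynomial.algebraMap_eq, ← MvPolynomial.algebraMap_eq, φ'.commutes,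
        φ.commutes, ← IsScalarTower.algebraMap_apply, ← IsScalarTower.algebraMap_apply]
    · change φ' (MvPolynomial.map (algebraMap R R') (MvPolynomial.X i)) =
        algebraMap Q Q' (φ (MvPolynomial.X i))
      rw [MvPolynomial.map_X]
      exact MvPolynomial.aeval_X _ _
  haveI : IsScalarTower R (MvPolynomial (Fin n) R') Q' := IsScalarTower.of_algebraMap_eq fun r => by
    rw [IsScalarTower.algebraMap_apply R R' (MvPolynomial (Fin n) R'), ← IsScalarTower.algebraMap_apply R' _ Q',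
      ← IsScalarTower.algebraMap_apply R R' Q']
  have hpo : Algebra.IsPushout (MvPolynomial (Fin n) R) Q (MvPolynomial (Fin n) R') Q' :=
    (Algebra.IsPushout.comp_iff (R := R) (S := MvPolynomial (Fin n) R) (R' := R')
      (S' := MvPolynomial (Fin n) R') (T := Q) (T' := Q')).1 inferInstance
  haveI : Algebra.IsPushout (MvPolynomial (Fin n) R) (MvPolynomial (Fin n) R') Q Q' := hpo.symm
  haveI : Module.FaithfullyFlat (MvPolynomial (Fin n) R) (MvPolynomial (Fin n) R') :=
    Module.FaithfullyFlat.of_linearEquiv _ (MvPolynomial (Fin n) R ⊗[R] R')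
      (inferInstance : Algebra.IsPushout R (MvPolynomial (Fin n) R) R' (MvPolynomial (Fin n) R')).out.equiv.symm
  refine phAt_descent (P' := MvPolynomial (Fin n) R') (Q' := Q') (h φ' ?_)
  intro y
  induction y using hpo.out.inductionOn with
  | zero => exact ⟨0, map_zero _⟩
  | tmul x =>
    exact ⟨x, rfl⟩
  | smul q x hx =>
    obtain ⟨p, rfl⟩ := hx
    obtain ⟨q, rfl⟩ := hφ q
    refine ⟨MvPolynomial.map (algebraMap R R') q * p, ?_⟩
    rw [map_mul, Algebra.smul_def]
    congr 1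
    exact IsScalarTower.algebraMap_apply (MvPolynomial (Fin n) R) Q Q' q
  | add x y hx hy =>
    obtain ⟨p, rfl⟩ := hx
    obtain ⟨q, rfl⟩ := hy
    exact ⟨p + q, map_add _ _ _⟩

theorem nPC_descent {X Y X' Y' : Scheme.{u}} (f : X ⟶ Y) [LocallyOfFiniteType f] (f' : X' ⟶ Y')
    [LocallyOfFiniteType f'] (g' : X' ⟶ X) (g : Y' ⟶ Y) [Flat g] [Surjective g] [QuasiCompact g]
    (hc : IsPullback g' f' f g) (k : ℤ) (hf' : DerSch.IsNPseudoCoherent f' k) :
    DerSch.IsNPseudoCoherent f k := by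
  refine rel_of_points f fun x => ?_
  obtain ⟨U, T, hUT, T'', X'', h, f'', g'', U'', hfl, hpb, hU, hT, hxU, hU'', htop, e1, e2, e3, hpush, hff⟩ :=
    PerfModLib.exists_chart f f' g' g hc x
  haveI : LocallyOfFiniteType f'' := MorphismProperty.of_isPullback hpb inferInstance
  have hf'' := nPC_baseChange f' f'' g'' h hpb k hf'
  refine ⟨U, hU, T, hT, hUT, hxU, ?_⟩
  letI : Algebra Γ(Y, T) Γ(T'', ⊤) := ((h ≫ g).appLE T ⊤ e1).hom.toAlgebra
  letI : Algebra Γ(Y, T) Γ(X, U) := (f.appLE T U hUT).hom.toAlgebra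
  letI : Algebra Γ(T'', ⊤) Γ(X'', U'') := (f''.appLE ⊤ U'' e2).hom.toAlgebra
  letI : Algebra Γ(X, U) Γ(X'', U'') := ((g'' ≫ g').appLE U U'' e3).hom.toAlgebra
  letI : Algebra Γ(Y, T) Γ(X'', U'') := (f.appLE T U hUT ≫ (g'' ≫ g').appLE U U'' e3).hom.toAlgebra
  haveI : IsScalarTower Γ(Y, T) Γ(X, U) Γ(X'', U'') := IsScalarTower.of_algebraMap_eq fun _ => rfl
  haveI : IsScalarTower Γ(Y, T) Γ(T'', ⊤) Γ(X'', U'') :=
    IsScalarTower.of_algebraMap_eq' (congrArg CommRingCat.Hom.hom hpush.w)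
  haveI : Algebra.IsPushout Γ(Y, T) Γ(X, U) Γ(T'', ⊤) Γ(X'', U'') :=
    CommRingCat.isPushout_iff_isPushout.mp hpush
  haveI : Module.FaithfullyFlat Γ(Y, T) Γ(T'', ⊤) := RingHom.faithfullyFlat_algebraMap_iff.1 hff
  obtain ⟨n, φ, hφ⟩ := exists_isChart f hU hT hUT
  refine rpc_of_cpc f hU φ hφ.1 hφ.2 ((cpc_unit_iff hU φ hφ.1 k).2 ?_)
  refine phAt_descent_pres (R := Γ(Y, T)) (R' := Γ(T'', ⊤)) (Q := Γ(X, U)) (Q' := Γ(X'', U''))
    ({ φ with commutes' := fun r => RingHom.congr_fun hφ.2 r } :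
      MvPolynomial (Fin n) Γ(Y, T) →ₐ[Γ(Y, T)] Γ(X, U)) hφ.1 fun φ' hs => ?_
  exact (cpc_unit_iff hU'' φ'.toRingHom hs k).1
    (rpc_of_rel f'' hf'' hU'' htop e2 n φ'.toRingHom ⟨hs, φ'.comp_algebraMap⟩)

end Groth.Agent.RelPCSchLib
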