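import Groth.Agent.RelPCSchLib.Main
import Groth.Agent.FlatRelPCLib.Basic
import Groth.Agent.FlatnLib.Basic
import Groth.Agent.PerfLib.FiniteType

/-!
# Relative pseudo-coherence of a module
-/

set_option autoImplicit false
set_option linter.style.haveILetI false
set_option backward.isDefEq.respectTransparency false
set_option backward.isDefEq.respectTransparency.types false

universe u

open CategoryTheory CategoryTheory.Limits AlgebraicGeometry TopologicalSpace Opposite

attribute [local instance] HasDerivedCategory.standard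

namespace Groth.Agent.RelPCSchLib

open Groth.Agent.PerfLib (resD res isPC_of_iso)
open Groth.Agent.ImmPCLib (pushD lim_push colim_push)

attribute [local instance] lim_push colim_push

variable {X S : Scheme.{u}} (f : X ⟶ S)

noncomputable def hdInD {W : Scheme.{u}} (M : W.Modules) : DCoh.HD (DCoh.inD W M) 0 ≅ M :=
  (DerivedCategory.singleFunctorCompHomologyFunctorIso W.Modules 0).app M

theorem isZero_HD_inD {W : Scheme.{u}} (M : W.Modules) {i : ℤ} (hi : 0 < i) :
    IsZero (DCoh.HD (DCoh.inD W M) i) :=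
  DerivedCategory.isZero_of_isLE _ 0 i hi

theorem rel_inD_of_pos [LocallyOfFiniteType f] (M : X.Modules) {m : ℤ} (hm : 0 < m) :
    DerSch.IsPseudoCoherentRel f m (DCoh.inD X M) :=
  rel_of_charts f fun U _ _ _ _ _ φ _ _ => isPC_of_iso (pushInD φ M).symm
    (Groth.Agent.PerfLib.isPC_of_isZero_above fun i hi => isZero_HD_inD _ (by omega))

theorem isPC_zero_iff_isFT {W : Scheme.{u}} (M : W.Modules) :
    DCoh.IsPseudoCoherentD 0 (DCoh.inD W M) ↔ CohB1.IsFT M :=
  ⟨fun h => QCohLib.isFT_of_iso (hdInD M)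
    (Groth.Agent.PerfLib.isFT_HD_top h fun _ hi => isZero_HD_inD M hi),
    Groth.Agent.PerfLib.isPC_zero_of_isFT⟩

theorem isFT_res (U : X.Opens) {M : X.Modules} (h : CohB1.IsFT M) : CohB1.IsFT ((res U.ι).obj M) :=
  (isPC_zero_iff_isFT _).1 (isPC_of_iso (((res U.ι).mapDerivedCategorySingleFunctor 0).app M)
    (Groth.Agent.PerfLib.isPC_res ((isPC_zero_iff_isFT M).2 h) U.ι))

theorem rel_inD_zero_iff [LocallyOfFiniteType f] (M : X.Modules) :
    DerSch.IsPseudoCoherentRel f 0 (DCoh.inD X M) ↔ CohB1.IsFT M := by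
  constructor
  · intro hE
    choose U V n φ hxU hU hc h using exists_chart_at f hE
    refine QCohLib.isFT_of_cover M U (eq_top_iff.2 fun x _ => Opens.mem_iSup.2 ⟨x, hxU x⟩) fun x => ?_
    haveI := hc x
    exact (Groth.Agent.ImmPCLib.isFT_push_iff (imm (U x) (φ x)) _).1
      ((isPC_zero_iff_isFT _).1 (isPC_of_iso (pushInD (φ x) M) (h x)))
  · intro h
    exact rel_of_charts f fun U _ _ _ _ _ φ _ _ => isPC_of_iso (pushInD φ M).symm
      ((isPC_zero_iff_isFT _).2 ((Groth.Agent.ImmPCLib.isFT_push_iff (imm U φ) _).2 (isFT_res U h)))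


/-- The sections of a module on an affine open, seen on the spectrum. -/
theorem exists_sections_equiv {U : X.Opens} (hU : IsAffineOpen U) (M : X.Modules) :
    Nonempty (((moduleSpecΓFunctor (R := X.presheaf.obj (op U))).obj (M.restrict hU.fromSpec)) ≃ₗ[Γ(X, U)]
      Γ(M, U)) := by
  have hW : hU.fromSpec ''ᵁ ⊤ = U :=
    (Scheme.Hom.image_top_eq_opensRange _).trans hU.opensRange_fromSpec
  let e : Γ(M.restrict hU.fromSpec, ⊤) ≅ Γ(M, U) :=
    M.restrictAppIso hU.fromSpec ⊤ ≪≫ M.presheaf.mapIso (eqToIso hW.symm).op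
  refine ⟨{ e.addCommGroupIsoToAddEquiv with map_smul' := fun r x => ?_ }⟩
  change M.presheaf.map (eqToHom hW.symm).op ((M.restrictAppIso hU.fromSpec ⊤).hom (r • x)) = r • _
  rw [QCohLib.restrict_smul hU M ⊤ hW.le r x, Scheme.Modules.map_smul]
  congr 1
  rw [← CommRingCat.comp_apply, ← X.presheaf.map_comp]
  exact congr($(X.presheaf.map_id (op U)) r)

/-- On a chart, a quasi-coherent module is tested by its sections. -/
theorem cpc_inD_iff {U : X.Opens} (hU : IsAffineOpen U) (M : X.Modules) [hM : Coh.IsQCoh M] {V : S.Opens} {n : ℕ}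
    (φ : MvPolynomial (Fin n) Γ(S, V) →+* Γ(X, U)) (hφ : Function.Surjective φ) :
    CPC (-1) (DCoh.inD X M) U φ ↔
      letI : Module (MvPolynomial (Fin n) Γ(S, V)) Γ(M, U) := Module.compHom _ φ
      Module.FinitePresentation (MvPolynomial (Fin n) Γ(S, V)) Γ(M, U) := by
  let A := X.presheaf.obj (op U)
  haveI : PreservesFiniteLimits (tilde.functor A) := FlatRelPCLib.tildeExact A
  let N : ModuleCat.{u} Γ(X, U) := (moduleSpecΓFunctor (R := A)).obj (M.restrict hU.fromSpec)
  haveI : IsIso (M.restrict hU.fromSpec).fromTildeΓ :=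
    @Scheme.Modules.isIso_fromTildeΓ_of_isQuasicoherent _ _
      (Scheme.Modules.isQuasicoherent_restrictFunctor hU.fromSpec M)
  have hMod : FlatRelPCLib.Mod (DCoh.inD X M) hU ((DerivedCategory.singleFunctor _ 0).obj N) :=
    ⟨((tilde.functor A).mapDerivedCategorySingleFunctor 0).app N ≪≫
      (DerivedCategory.singleFunctor _ 0).mapIso (asIso (M.restrict hU.fromSpec).fromTildeΓ) ≪≫
      (((res hU.fromSpec).mapDerivedCategorySingleFunctor 0).app M).symm⟩
  rw [← chartPC_iff (-1) (DCoh.inD X M) hU V φ hφ, FlatRelPCLib.chartPC_iff hU φ hφ hMod (-1),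
    RelPCLib.pv_module_iff]
  obtain ⟨e⟩ := exists_sections_equiv hU M
  letI : Module (MvPolynomial (Fin n) Γ(S, V)) Γ(M, U) := Module.compHom _ φ
  let l : ((ModuleCat.restrictScalars.{u} φ).obj N) ≃ₗ[MvPolynomial (Fin n) Γ(S, V)] Γ(M, U) :=
    { e.toAddEquiv with map_smul' := fun r x => e.map_smul (φ r) x }
  let P := MvPolynomial (Fin n) Γ(S, V)
  let Nφ := (ModuleCat.restrictScalars.{u} φ).obj N
  let K : Dual.D P := (DerivedCategory.singleFunctor (ModuleCat.{u} P) 0).obj Nφ
  have hz : ∀ i, (-1 : ℤ) + 1 < i → IsZero ((DRingLib.Hn P i).obj K) := fun i hi =>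
    DerivedCategory.isZero_of_isLE K 0 i (by omega)
  let eH : (DRingLib.Hn P (-1 + 1)).obj K ≅ Nφ :=
    (DerivedCategory.singleFunctorCompHomologyFunctorIso (ModuleCat.{u} P) 0).app Nφ
  constructor
  · intro h
    haveI := DRingLib.finitePresentation_of_isPseudoCoherent (K := K) h hz
    exact Module.FinitePresentation.of_equiv (eH.toLinearEquiv.trans l)
  · intro h
    haveI := h
    refine DRingLib.isPseudoCoherent_of_finitePresentation (K := K) hz
      (Module.FinitePresentation.of_equiv (eH.toLinearEquiv.trans l).symm) ?_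
    haveI := ModuleCat.subsingleton_of_isZero (DerivedCategory.isZero_of_isGE K 0 (-1) (by omega))
    exact inferInstanceAs (Module.Finite P ((DRingLib.Hn P (-1)).obj K))

theorem rel_inD_neg_one_iff [LocallyOfFiniteType f] (M : X.Modules) :
    DerSch.IsPseudoCoherentRel f (-1) (DCoh.inD X M) ↔ (Coh.IsQCoh M ∧ Flatn.IsRelFP f M) := by
  constructor
  · intro hE
    haveI hq0 : Coh.IsQCoh (DCoh.HD (DCoh.inD X M) 0) := isQCoh_HD_of_rel f hE 0 (by omega)
    haveI : Coh.IsQCoh M := QCohLib.isQCoh_of_iso (hdInD M)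
    refine ⟨inferInstance, FlatnLib.isRelFP_of_forall f M fun U V h => ?_⟩
    obtain ⟨n, φ, hφ⟩ := exists_isChart f U.2 V.2 h
    have hc := (cpc_inD_iff U.2 M φ hφ.1).1 (rpc_of_rel f hE U.2 V.2 h n φ hφ)
    letI := (f.appLE V.1 U.1 h).hom.toAlgebra
    exact ⟨n, { φ with commutes' := fun r => RingHom.congr_fun hφ.2 r }, hφ.1, hc⟩
  · rintro ⟨hq, hfp⟩
    haveI := hq
    refine rel_of_rpc f fun U V h => ?_
    have hP := FlatnLib.P_of_isRelFP f M hfp U.2 V.2 h
    letI := (f.appLE V.1 U.1 h).hom.toAlgebra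
    obtain ⟨n, α, hα, hfp'⟩ := hP
    exact rpc_of_cpc f U.2 α.toRingHom hα α.comp_algebraMap ((cpc_inD_iff U.2 M α.toRingHom hα).2 hfp')

end Groth.Agent.RelPCSchLib
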