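import Groth.Agent.RelPCSchLib.CompDeg
import Groth.Agent.LCILocusLib.Scheme
import Mathlib.RingTheory.Flat.Stability

/-!
# Flat base change of pseudo-coherent morphisms
-/

set_option autoImplicit false
set_option linter.style.haveILetI false
set_option backward.isDefEq.respectTransparency false
set_option backward.isDefEq.respectTransparency.types false

universe u

open CategoryTheory CategoryTheory.Limits AlgebraicGeometry TopologicalSpace Opposite

attribute [local instance] HasDerivedCategory.standard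

namespace Groth.Agent.RelPCSchLib

theorem phAt_isPushout {P Q P' Q' : Type u} [CommRing P] [CommRing Q] [CommRing P'] [CommRing Q']
    [Algebra P Q] [Algebra P P'] [Algebra Q Q'] [Algebra P' Q'] [Algebra P Q'] [IsScalarTower P Q Q']
    [IsScalarTower P P' Q'] [Algebra.IsPushout P P' Q Q'] [Module.Flat P P'] {k : ℤ}
    (h : PHAt (algebraMap P Q) k) : PHAt (algebraMap P' Q') k := by
  have h1 : DRing.IsPseudoCoherentModule P k Q := DRingLib.isPseudoCoherent_of_iso
    (RelPCLib.restrictInD (algebraMap P Q) (ModuleCat.of Q Q) ≪≫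
      (DerivedCategory.singleFunctor (ModuleCat.{u} P) 0).mapIso
        (LinearEquiv.toModuleIso ({ AddEquiv.refl Q with map_smul' := fun r x => Algebra.smul_def r x } :
          Q ≃ₗ[P] ((ModuleCat.restrictScalars.{u} (algebraMap P Q)).obj (ModuleCat.of Q Q)))).symm) h
  have h2 := DRingLib.isPseudoCoherent_extCx (algebraMap P P')
    (RingHom.flat_algebraMap_iff.2 inferInstance)
    (K := (HomologicalComplex.single (ModuleCat.{u} P) (ComplexShape.up ℤ) 0).obj (ModuleCat.of P Q))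
    (DRingLib.isPseudoCoherent_of_iso
      ((DerivedCategory.singleFunctorIsoCompQ (ModuleCat.{u} P) 0).app (ModuleCat.of P Q)) h1)
  have h3 : DRing.IsPseudoCoherentModule P' k Q' :=
    DRingLib.isPseudoCoherentModule_of_equiv
      (Algebra.IsPushout.equiv P P' Q Q').toLinearEquiv
      (DRingLib.isPseudoCoherent_of_iso (DRingLib.extCxSingleIso Q) h2)
  exact DRingLib.isPseudoCoherent_of_iso
    ((DerivedCategory.singleFunctor (ModuleCat.{u} P') 0).mapIso
        (LinearEquiv.toModuleIso ({ AddEquiv.refl Q' with map_smul' := fun r x => Algebra.smul_def r x } :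
          Q' ≃ₗ[P'] ((ModuleCat.restrictScalars.{u} (algebraMap P' Q')).obj (ModuleCat.of Q' Q')))) ≪≫
      (RelPCLib.restrictInD (algebraMap P' Q') (ModuleCat.of Q' Q')).symm) h3

/-- Base change of a presentation along a flat map. -/
theorem exists_pres_baseChange {R R' Q Q' : Type u} [CommRing R] [CommRing R'] [CommRing Q] [CommRing Q']
    [Algebra R R'] [Algebra R Q] [Algebra R Q'] [Algebra R' Q'] [Algebra Q Q'] [IsScalarTower R Q Q']
    [IsScalarTower R R' Q'] [Algebra.IsPushout R Q R' Q'] [Module.Flat R R'] {n : ℕ} {k : ℤ}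
    (φ : MvPolynomial (Fin n) R →ₐ[R] Q) (hφ : Function.Surjective φ) (h : PHAt φ.toRingHom k) :
    ∃ φ' : MvPolynomial (Fin n) R' →ₐ[R'] Q', Function.Surjective φ' ∧ PHAt φ'.toRingHom k := by
  let φ' : MvPolynomial (Fin n) R' →ₐ[R'] Q' :=
    MvPolynomial.aeval fun i => algebraMap Q Q' (φ (MvPolynomial.X i))
  letI : Algebra (MvPolynomial (Fin n) R) Q := φ.toRingHom.toAlgebra
  letI : Algebra (MvPolynomial (Fin n) R') Q' := φ'.toRingHom.toAlgebra
  letI : Algebra (MvPolynomial (Fin n) R) (MvPolynomial (Fin n) R') := MvPolynomial.algebraMvPolynomial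
  letI : Algebra (MvPolynomial (Fin n) R) Q' :=
    (φ'.toRingHom.comp (MvPolynomial.map (algebraMap R R'))).toAlgebra
  haveI : IsScalarTower R (MvPolynomial (Fin n) R) Q :=
    IsScalarTower.of_algebraMap_eq fun r => (φ.commutes r).symm
  haveI : IsScalarTower R' (MvPolynomial (Fin n) R') Q' :=
    IsScalarTower.of_algebraMap_eq fun r => (φ'.commutes r).symm
  haveI : IsScalarTower (MvPolynomial (Fin n) R) (MvPolynomial (Fin n) R') Q' :=
    IsScalarTower.of_algebraMap_eq fun _ => rfl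
  haveI : IsScalarTower (MvPolynomial (Fin n) R) Q Q' := by
    refine IsScalarTower.of_algebraMap_eq' (MvPolynomial.ringHom_ext (fun r => ?_) fun i => ?_)
    · change φ' (MvPolynomial.map (algebraMap R R') (MvPolynomial.C r)) =
        algebraMap Q Q' (φ (MvPolynomial.C r))
      rw [MvPolynomial.map_C, ← MvPolynomial.algebraMap_eq, ← MvPolynomial.algebraMap_eq, φ'.commutes,
        φ.commutes, ← IsScalarTower.algebraMap_apply, ← IsScalarTower.algebraMap_apply]
    · change φ' (MvPolynomial.map (algebraMap R R') (MvPolynomial.X i)) =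
        algebraMap Q Q' (φ (MvPolynomial.X i))
      rw [MvPolynomial.map_X]
      exact MvPolynomial.aeval_X _ _
  haveI : IsScalarTower R (MvPolynomial (Fin n) R') Q' := IsScalarTower.of_algebraMap_eq fun r => by
    rw [IsScalarTower.algebraMap_apply R R' (MvPolynomial (Fin n) R'), ← IsScalarTower.algebraMap_apply R' _ Q',
      ← IsScalarTower.algebraMap_apply R R' Q']
  have hpo : Algebra.IsPushout (MvPolynomial (Fin n) R) Q (MvPolynomial (Fin n) R') Q' :=
    (Algebra.IsPushout.comp_iff (R := R) (S := MvPolynomial (Fin n) R) (R' := R')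
      (S' := MvPolynomial (Fin n) R') (T := Q) (T' := Q')).1 inferInstance
  haveI : Algebra.IsPushout (MvPolynomial (Fin n) R) (MvPolynomial (Fin n) R') Q Q' := hpo.symm
  haveI : Module.Flat (MvPolynomial (Fin n) R) (MvPolynomial (Fin n) R') :=
    Module.Flat.isBaseChange R (MvPolynomial (Fin n) R) R' (MvPolynomial (Fin n) R')
      (inferInstance : Algebra.IsPushout R (MvPolynomial (Fin n) R) R' (MvPolynomial (Fin n) R')).out
  refine ⟨φ', ?_, phAt_isPushout (P := MvPolynomial (Fin n) R) (Q := Q) h⟩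
  intro y
  induction y using hpo.out.inductionOn with
  | zero => exact ⟨0, map_zero _⟩
  | tmul x =>
    exact ⟨x, rfl⟩
  | smul q x hx =>
    obtain ⟨p, rfl⟩ := hx
    obtain ⟨q, rfl⟩ := hφ q
    refine ⟨MvPolynomial.map (algebraMap R R') q * p, ?_⟩
    rw [map_mul, Algebra.smul_def]
    congr 1
    exact IsScalarTower.algebraMap_apply (MvPolynomial (Fin n) R) Q Q' q
  | add x y hx hy =>
    obtain ⟨p, rfl⟩ := hx
    obtain ⟨q, rfl⟩ := hy
    exact ⟨p + q, map_add _ _ _⟩

variable {X Y X' Y' : Scheme.{u}}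

theorem nPC_baseChange (f : X ⟶ Y) [LocallyOfFiniteType f] (f' : X' ⟶ Y') [LocallyOfFiniteType f']
    (g' : X' ⟶ X) (g : Y' ⟶ Y) [Flat g] (hc : IsPullback g' f' f g) (k : ℤ)
    (hf : DerSch.IsNPseudoCoherent f k) : DerSch.IsNPseudoCoherent f' k := by
  refine rel_of_pairs f' {T' | ∃ T : Y.affineOpens, (T' : Y'.Opens) ≤ g ⁻¹ᵁ (T : Y.Opens)} ?_ ?_
  · intro t
    obtain ⟨T, hT, hxT, -⟩ := exists_isAffineOpen_mem_and_subset (x := g t) (U := ⊤) trivial
    obtain ⟨T', hT', hxT', eT⟩ := exists_isAffineOpen_mem_and_subset (x := t) (U := g ⁻¹ᵁ T) hxT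
    exact ⟨⟨T', hT'⟩, ⟨⟨T, hT⟩, eT⟩, hxT'⟩
  · rintro ⟨T', hT'⟩ ⟨⟨T, hT⟩, eT'⟩ x' hx'
    have hsT : f (g' x') ∈ T := by
      rw [← Scheme.Hom.comp_apply, hc.w]
      exact eT' hx'
    obtain ⟨U, hU, hxU, hUT⟩ := exists_isAffineOpen_mem_and_subset (x := g' x') (U := f ⁻¹ᵁ T) hsT
    have hUT' : U ≤ f ⁻¹ᵁ T := hUT
    obtain ⟨hU', hp⟩ := LCILocusLib.pullback_chart hc hT hT' eT' hU hUT'
    let U' := g' ⁻¹ᵁ U ⊓ f' ⁻¹ᵁ T'
    refine ⟨U', hU', inf_le_right, ⟨hxU, hx'⟩, ?_⟩
    obtain ⟨r, χ, hχ, hph⟩ := phBaseAt_of_nPC f hf U T hU hT hUT'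
    letI : Algebra Γ(Y, T) Γ(Y', T') := (g.appLE T T' eT').hom.toAlgebra
    letI : Algebra Γ(Y, T) Γ(X, U) := (f.appLE T U hUT').hom.toAlgebra
    letI : Algebra Γ(Y', T') Γ(X', U') := (f'.appLE T' U' inf_le_right).hom.toAlgebra
    letI : Algebra Γ(X, U) Γ(X', U') := (g'.appLE U U' inf_le_left).hom.toAlgebra
    letI : Algebra Γ(Y, T) Γ(X', U') := (f.appLE T U hUT' ≫ g'.appLE U U' inf_le_left).hom.toAlgebra
    haveI : IsScalarTower Γ(Y, T) Γ(X, U) Γ(X', U') := IsScalarTower.of_algebraMap_eq fun _ => rfl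
    haveI : IsScalarTower Γ(Y, T) Γ(Y', T') Γ(X', U') :=
      IsScalarTower.of_algebraMap_eq' (congrArg CommRingCat.Hom.hom hp.w)
    haveI : Algebra.IsPushout Γ(Y, T) Γ(X, U) Γ(Y', T') Γ(X', U') :=
      CommRingCat.isPushout_iff_isPushout.mp hp
    haveI : Module.Flat Γ(Y, T) Γ(Y', T') := g.flat_appLE hT hT' eT'
    obtain ⟨φ', hφ', hph'⟩ := exists_pres_baseChange (R := Γ(Y, T)) (R' := Γ(Y', T'))
      (Q := Γ(X, U)) (Q' := Γ(X', U'))
      ({ χ with commutes' := fun x => RingHom.congr_fun hχ.2 x } :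
        MvPolynomial (Fin r) Γ(Y, T) →ₐ[Γ(Y, T)] Γ(X, U)) hχ.1 hph
    exact rpc_of_cpc f' hU' φ'.toRingHom hφ' φ'.comp_algebraMap
      ((cpc_unit_iff hU' φ'.toRingHom hφ' k).2 hph')

end Groth.Agent.RelPCSchLib
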