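import Groth.Agent.RelPCSchLib.Rel

/-!
# Charts on basic opens
-/

set_option autoImplicit false
set_option linter.style.haveILetI false
set_option backward.isDefEq.respectTransparency false
set_option backward.isDefEq.respectTransparency.types false

universe u

open CategoryTheory CategoryTheory.Limits AlgebraicGeometry TopologicalSpace Opposite

attribute [local instance] HasDerivedCategory.standard

namespace Groth.Agent.RelPCSchLib

open Groth.Agent.PerfLib (resD isPC_of_iso)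
open Groth.Agent.ImmPCLib (pushD lim_push colim_push)

attribute [local instance] lim_push colim_push

variable {X S : Scheme.{u}} (f : X ⟶ S)

/-- Renumbering the variables of a presentation. -/
theorem exists_fin_chart {m : ℤ} {E : DCoh.D X} {U : X.Opens} (hU : IsAffineOpen U) {V : S.Opens}
    (h : U ≤ f ⁻¹ᵁ V) {σ : Type} [Finite σ] (ψ : MvPolynomial σ Γ(S, V) →+* Γ(X, U))
    (hψ : Function.Surjective ψ) (hC : ψ.comp MvPolynomial.C = (f.appLE V U h).hom)
    (hc : CPC m E U ψ) :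
    ∃ (n : ℕ) (φ : MvPolynomial (Fin n) Γ(S, V) →+* Γ(X, U)),
      DerSch.IsChart f U V h φ ∧ DerSch.ChartPC m E U V φ := by
  obtain ⟨n, ⟨e⟩⟩ := Finite.exists_equiv_fin σ
  let r := MvPolynomial.renameEquiv Γ(S, V) e.symm
  have hs : Function.Surjective (ψ.comp r.toRingEquiv.toRingHom) := hψ.comp r.surjective
  have hC' : (ψ.comp r.toRingEquiv.toRingHom).comp MvPolynomial.C = (f.appLE V U h).hom := by
    refine RingHom.ext fun x => Eq.trans ?_ (RingHom.congr_fun hC x)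
    exact congrArg ψ (r.commutes x)
  exact ⟨n, _, ⟨hs, hC'⟩, (chartPC_iff m E hU V _ hs).2
    ((cpc_indep' hU ψ hψ _ hs (hC.trans hC'.symm) m E).1 hc)⟩

theorem cover_iff {U : X.Opens} (hU : IsAffineOpen U) {V : S.Opens} (h : U ≤ f ⁻¹ᵁ V)
    (hft : (f.appLE V U h).hom.FiniteType) (m : ℤ) (E : DCoh.D X)
    {k : ℕ} (g : Fin k → Γ(X, U)) (hg : Ideal.span (Set.range g) = ⊤) :
    (∀ j : Fin k, ∃ (n : ℕ) (φ : MvPolynomial (Fin n) Γ(S, V) →+* Γ(X, X.basicOpen (g j))),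
        DerSch.IsChart f (X.basicOpen (g j)) V ((X.basicOpen_le (g j)).trans h) φ ∧
          DerSch.ChartPC m E (X.basicOpen (g j)) V φ) ↔
      ∃ (n : ℕ) (φ : MvPolynomial (Fin n) Γ(S, V) →+* Γ(X, U)),
        DerSch.IsChart f U V h φ ∧ DerSch.ChartPC m E U V φ := by
  constructor
  · intro hj
    letI := (f.appLE V U h).hom.toAlgebra
    haveI : Algebra.FiniteType Γ(S, V) Γ(X, U) := hft
    obtain ⟨n, α, hα⟩ := RelPCLib.exists_pres Γ(S, V) Γ(X, U)
    have hφ : DerSch.IsChart f U V h α.toRingHom := ⟨hα, α.comp_algebraMap⟩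
    refine ⟨n, α.toRingHom, hφ, (chartPC_iff m E hU V _ hα).2 ?_⟩
    choose a ha using fun j => hα (g j)
    refine cpc_of_cover m E a (fun x => ?_) fun j hi => ?_
    · obtain ⟨p, hp⟩ := Opens.mem_iSup.1 ((hU.self_le_iSup_basicOpen_iff.2 hg) x.2)
      obtain ⟨⟨_, j', rfl⟩, hj'⟩ : ∃ p : Set.range g, (x : X) ∈ X.basicOpen (p : Γ(X, U)) := ⟨p, hp⟩
      exact ⟨j', by simpa [ha] using hj'⟩
    · obtain ⟨β, hβ, hβC, hiff⟩ := exists_basic_pres f hU (hU.basicOpen (g j)) h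
        ((X.basicOpen_le (g j)).trans h) α.toRingHom hφ (a j) (congrArg _ (ha j).symm)
      obtain ⟨n', φ', hφ', hc'⟩ := hj j
      exact (hiff m E hi).1 ((cpc_indep' (hU.basicOpen (g j)) φ' hφ'.1 β hβ
        (hφ'.2.trans hβC.symm) m E).1 ((chartPC_iff m E (hU.basicOpen (g j)) V φ' hφ'.1).1 hc'))
  · rintro ⟨n, φ, hφ, hc⟩ j
    obtain ⟨a, ha⟩ := hφ.1 (g j)
    obtain ⟨β, hβ, hβC, hiff⟩ := exists_basic_pres f hU (hU.basicOpen (g j)) h
      ((X.basicOpen_le (g j)).trans h) φ hφ a (congrArg _ ha.symm)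
    haveI := isClosedImmersion_imm hU hφ.1
    exact exists_fin_chart f (hU.basicOpen (g j)) _ β hβ hβC ((hiff m E inferInstance).2
      (Groth.Agent.PerfLib.isPC_res ((chartPC_iff m E hU V φ hφ.1).1 hc inferInstance) _))

theorem base_basic {V : S.Opens} (hV : IsAffineOpen V) (r : Γ(S, V)) {U : X.Opens} (hU : IsAffineOpen U)
    (hle : U ≤ f ⁻¹ᵁ S.basicOpen r) (g : Γ(X, U)) (h' : X.basicOpen g ≤ f ⁻¹ᵁ V) (m : ℤ) (E : DCoh.D X)
    (hE : ∃ (n : ℕ) (φ : MvPolynomial (Fin n) Γ(S, S.basicOpen r) →+* Γ(X, U)),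
      DerSch.IsChart f U (S.basicOpen r) hle φ ∧ DerSch.ChartPC m E U (S.basicOpen r) φ) :
    ∃ (k : ℕ) (ψ : MvPolynomial (Fin k) Γ(S, V) →+* Γ(X, X.basicOpen g)),
      DerSch.IsChart f (X.basicOpen g) V h' ψ ∧ DerSch.ChartPC m E (X.basicOpen g) V ψ := by
  obtain ⟨n, φ, hφ, hc⟩ := hE
  letI := (S.presheaf.map (homOfLE (S.basicOpen_le r)).op).hom.toAlgebra
  haveI : IsLocalization.Away r Γ(S, S.basicOpen r) :=
    hV.isLocalization_of_eq_basicOpen r (homOfLE (S.basicOpen_le r)) rfl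
  obtain ⟨π, hπ, hph, hπC⟩ := exists_target_pres (R := Γ(S, V)) (T := Γ(S, S.basicOpen r)) r n
  have hUV : U ≤ f ⁻¹ᵁ V := fun x hx => S.basicOpen_le r (hle hx)
  have hC : (φ.comp π).comp MvPolynomial.C = (f.appLE V U hUV).hom := RingHom.ext fun x => by
    rw [RingHom.comp_apply, RingHom.comp_apply, hπC, ← RingHom.comp_apply φ, hφ.2]
    exact ConcreteCategory.congr_hom (f.map_appLE hle (homOfLE (S.basicOpen_le r)).op) x
  obtain ⟨n', φ', hφ', hc'⟩ := exists_fin_chart f hU hUV (φ.comp π) (hφ.1.comp hπ) hC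
    ((cpc_comp hπ hph hU hφ.1 m E).2 ((chartPC_iff m E hU (S.basicOpen r) φ hφ.1).1 hc))
  obtain ⟨a, ha⟩ := hφ'.1 g
  obtain ⟨β, hβ, hβC, hiff⟩ := exists_basic_pres f hU (hU.basicOpen g) hUV h' φ' hφ' a
    (congrArg _ ha.symm)
  haveI := isClosedImmersion_imm hU hφ'.1
  exact exists_fin_chart f (hU.basicOpen g) _ β hβ hβC ((hiff m E inferInstance).2
    (Groth.Agent.PerfLib.isPC_res ((chartPC_iff m E hU V φ' hφ'.1).1 hc' inferInstance) _))

end Groth.Agent.RelPCSchLib
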