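import Groth.Agent.ImmPCLib.Basic
import Groth.Agent.AffPushPCLib.Square
import Groth.Agent.TildeDerLib.Push
import Groth.Agent.TildePCLib.Main
import Groth.Agent.RelPCLib.Basic
import Groth.Agent.HensSchLib.Flat

/-!
# Direct images along closed immersions: composites, squares, affine ones
-/

set_option autoImplicit false
set_option linter.style.haveILetI false
set_option backward.isDefEq.respectTransparency false
set_option backward.isDefEq.respectTransparency.types false

universe u

open CategoryTheory CategoryTheory.Limits AlgebraicGeometry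

attribute [local instance] HasDerivedCategory.standard

namespace Groth.Agent.RelPCSchLib

open Groth.Agent.PerfLib (resD resC res resDQIso isPC_of_iso)
open Groth.Agent.ImmPCLib (pushD lim_push colim_push)

attribute [local instance] lim_push colim_push

variable {U P P' O : Scheme.{u}}

theorem nonempty_push_comp (j : U ⟶ P) [IsClosedImmersion j] (s : P ⟶ P') [IsClosedImmersion s]
    (E : DCoh.D U) : Nonempty ((pushD s).obj ((pushD j).obj E) ≅ (pushD (j ≫ s)).obj E) := by
  let C := DerivedCategory.Q.objPreimage E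
  let e := DerivedCategory.Q.objObjPreimageIso E
  exact ⟨(pushD s).mapIso ((pushD j).mapIso e.symm ≪≫
      (Scheme.Modules.pushforward j).mapDerivedCategoryFactors.app C) ≪≫
    (Scheme.Modules.pushforward s).mapDerivedCategoryFactors.app _ ≪≫
    DerivedCategory.Q.mapIso ((NatIso.mapHomologicalComplex (Scheme.Modules.pushforwardComp j s)
      (ComplexShape.up ℤ)).app C) ≪≫
    ((Scheme.Modules.pushforward (j ≫ s)).mapDerivedCategoryFactors.app C).symm ≪≫
    (pushD (j ≫ s)).mapIso e⟩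

theorem nonempty_push_congr {j j' : U ⟶ P} [IsClosedImmersion j] [IsClosedImmersion j'] (h : j = j')
    (E : DCoh.D U) : Nonempty ((pushD j).obj E ≅ (pushD j').obj E) := by
  subst h
  exact ⟨Iso.refl _⟩

theorem pcPushUnit_iff_comp {j : U ⟶ P} [IsClosedImmersion j] {s : P ⟶ P'} [IsClosedImmersion s]
    (hs : Groth.Agent.ImmPCLib.PCPushUnit s) (E : DCoh.D U) (m : ℤ) :
    DCoh.IsPseudoCoherentD m ((pushD (j ≫ s)).obj E) ↔ DCoh.IsPseudoCoherentD m ((pushD j).obj E) := by
  obtain ⟨c⟩ := nonempty_push_comp j s E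
  rw [Groth.Agent.ImmPCLib.isPC_push_iff s hs ((pushD j).obj E) m]
  exact ⟨fun h => isPC_of_iso c.symm h, fun h => isPC_of_iso c h⟩

/-- Restriction along an isomorphism is direct image along the inverse. -/
theorem nonempty_res_iso (e : O ⟶ U) [IsIso e] (E : DCoh.D U) :
    Nonempty ((resD e).obj E ≅ (pushD (inv e)).obj E) := by
  let C := DerivedCategory.Q.objPreimage E
  let c := DerivedCategory.Q.objObjPreimageIso E
  exact ⟨(resD e).mapIso c.symm ≪≫ resDQIso e C ≪≫
    DerivedCategory.Q.mapIso ((NatIso.mapHomologicalComplex (AffPushPCLib.resIsoPush e)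
      (ComplexShape.up ℤ)).app C) ≪≫
    ((Scheme.Modules.pushforward (inv e)).mapDerivedCategoryFactors.app C).symm ≪≫
    (pushD (inv e)).mapIso c⟩

/-- Base change along an open immersion. -/
theorem nonempty_res_push {j : U ⟶ P} [IsClosedImmersion j] {q : P' ⟶ P} [IsOpenImmersion q]
    {j' : O ⟶ P'} [IsClosedImmersion j'] {o : O ⟶ U} [IsOpenImmersion o] (h : IsPullback j' o q j)
    (E : DCoh.D U) :
    Nonempty ((resD q).obj ((pushD j).obj E) ≅ (pushD j').obj ((resD o).obj E)) := by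
  let e := q.isoOpensRange
  have h' : IsPullback (j ∣_ q.opensRange ≫ e.inv) (j ⁻¹ᵁ q.opensRange).ι q j :=
    (isPullback_morphismRestrict j q.opensRange).of_iso (Iso.refl _) e.symm (Iso.refl _) (Iso.refl _)
      (by simp) (by simp) (by simp [e, Scheme.Hom.isoOpensRange_inv_comp]) (by simp)
  let ε := h.isoIsPullback _ _ h'
  have hε₁ : ε.hom ≫ j ∣_ q.opensRange ≫ e.inv = j' := h.isoIsPullback_hom_fst _ _ h'
  have hε₂ : ε.hom ≫ (j ⁻¹ᵁ q.opensRange).ι = o := h.isoIsPullback_hom_snd _ _ h'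
  have hq : e.hom ≫ q.opensRange.ι = q := by
    rw [← e.eq_inv_comp]
    exact (Scheme.Hom.isoOpensRange_inv_comp q).symm
  obtain ⟨a⟩ := Groth.Agent.PerfLib.nonempty_resD_congr hq.symm ((pushD j).obj E)
  obtain ⟨b⟩ := Groth.Agent.PerfLib.nonempty_resD_comp e.hom q.opensRange.ι ((pushD j).obj E)
  obtain ⟨c⟩ := Groth.Agent.ImmPCLib.nonempty_resPush j q.opensRange E
  let E' := (resD (j ⁻¹ᵁ q.opensRange).ι).obj E
  obtain ⟨d⟩ := nonempty_res_iso e.hom ((pushD (j ∣_ q.opensRange)).obj E')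
  obtain ⟨f⟩ := nonempty_push_comp (j ∣_ q.opensRange) (inv e.hom) E'
  obtain ⟨g⟩ := nonempty_push_congr (show j ∣_ q.opensRange ≫ inv e.hom = inv ε.hom ≫ j' by
    rw [IsIso.Iso.inv_hom, IsIso.eq_inv_comp]; exact hε₁) E'
  obtain ⟨k⟩ := nonempty_push_comp (inv ε.hom) j' E'
  obtain ⟨l⟩ := nonempty_res_iso ε.hom E'
  obtain ⟨r⟩ := Groth.Agent.PerfLib.nonempty_resD_comp ε.hom (j ⁻¹ᵁ q.opensRange).ι E
  obtain ⟨t⟩ := Groth.Agent.PerfLib.nonempty_resD_congr hε₂ E
  exact ⟨a ≪≫ b ≪≫ (resD e.hom).mapIso c ≪≫ d ≪≫ f ≪≫ g ≪≫ k.symm ≪≫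
    (pushD j').mapIso (l.symm ≪≫ r.symm ≪≫ t)⟩

/-- A pseudo-coherent surjection gives a closed immersion with pseudo-coherent structure sheaf. -/
theorem pcPushUnit_spec {A B : Type u} [CommRing A] [CommRing B] (π : A →+* B) (hπ : RelPCLib.PH π)
    [IsClosedImmersion (Spec.map (CommRingCat.ofHom π))] :
    Groth.Agent.ImmPCLib.PCPushUnit (Spec.map (CommRingCat.ofHom π)) := by
  intro n
  haveI : PreservesFiniteLimits (tilde.functor (CommRingCat.of A)) :=
    HensSchLib.tilde_preservesFiniteLimits _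
  obtain ⟨θ⟩ := TildeDerLib.nonempty_pushTildeIso (CommRingCat.ofHom π)
  exact isPC_of_iso
    (((tilde.functor (CommRingCat.of A)).mapDerivedCategorySingleFunctor 0).app _ ≪≫
      (DerivedCategory.singleFunctor _ 0).mapIso ((θ.app (ModuleCat.of B B)).symm ≪≫
        (Scheme.Modules.pushforward (Spec.map (CommRingCat.ofHom π))).mapIso tildeSelf))
    (TildePCLib.isPC_tildeD (DRingLib.isPseudoCoherent_of_iso
      (RelPCLib.restrictInD π (ModuleCat.of B B)) (hπ n)))

end Groth.Agent.RelPCSchLib
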