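import Groth.Prelude.Def_DerSch2
import Groth.Agent.RelPCSchLib.Square
import Groth.Agent.RelPCLib.Local

/-!
# Pseudo-coherence on charts, for arbitrary objects
-/

set_option autoImplicit false
set_option linter.style.haveILetI false
set_option backward.isDefEq.respectTransparency false
set_option backward.isDefEq.respectTransparency.types false

universe u

open CategoryTheory CategoryTheory.Limits AlgebraicGeometry TopologicalSpace

attribute [local instance] HasDerivedCategory.standard

namespace Groth.Agent.RelPCSchLib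

open Groth.Agent.PerfLib (resD resC res resDQIso isPC_of_iso)
open Groth.Agent.ImmPCLib (pushD lim_push colim_push)

attribute [local instance] lim_push colim_push

variable {X : Scheme.{u}} {A A' : Type u} [CommRing A] [CommRing A']

/-- The morphism of an open attached to a ring map. -/
noncomputable def imm (U : X.Opens) (ψ : A →+* Γ(X, U)) :
    (U : Scheme.{u}) ⟶ Spec (CommRingCat.of A) :=
  U.toSpecΓ ≫ Spec.map (CommRingCat.ofHom ψ)

theorem isClosedImmersion_imm {U : X.Opens} (hU : IsAffineOpen U) {ψ : A →+* Γ(X, U)}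
    (hψ : Function.Surjective ψ) : IsClosedImmersion (imm U ψ) := by
  haveI : IsIso U.toSpecΓ := hU.isoSpec_hom ▸ inferInstance
  haveI := IsClosedImmersion.spec_of_surjective (CommRingCat.ofHom ψ) hψ
  unfold imm
  infer_instance

/-- Pseudo-coherence after the closed immersion attached to `ψ`. -/
def CPC (m : ℤ) (E : DCoh.D X) (U : X.Opens) (ψ : A →+* Γ(X, U)) : Prop :=
  ∀ h : IsClosedImmersion (imm U ψ), haveI := h
    DCoh.IsPseudoCoherentD m ((pushD (imm U ψ)).obj ((resD U.ι).obj E))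

theorem chartPC_iff {S : Scheme.{u}} (m : ℤ) (E : DCoh.D X) {U : X.Opens} (hU : IsAffineOpen U)
    (V : S.Opens) {n : ℕ} (φ : MvPolynomial (Fin n) Γ(S, V) →+* Γ(X, U))
    (hφ : Function.Surjective φ) : DerSch.ChartPC m E U V φ ↔ CPC m E U φ := by
  haveI : IsClosedImmersion (imm U φ) := isClosedImmersion_imm hU hφ
  have key : ∀ G : CochainComplex X.Modules ℤ, (DCoh.toD X G ≅ E) →
      Nonempty (DCoh.toD _ ((DerSch.pushCx (DerSch.chartImm U φ)).obj ((DCoh.restrictCx U).obj G)) ≅
        (pushD (imm U φ)).obj ((resD U.ι).obj E)) := fun G eG =>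
    ⟨((Scheme.Modules.pushforward (imm U φ)).mapDerivedCategoryFactors.app ((resC U.ι).obj G)).symm ≪≫
      (pushD (imm U φ)).mapIso ((resDQIso U.ι G).symm ≪≫ (resD U.ι).mapIso eG)⟩
  constructor
  · intro h _
    obtain ⟨k⟩ := key _ (DerivedCategory.Q.objObjPreimageIso E)
    exact isPC_of_iso k (h _ ⟨DerivedCategory.Q.objObjPreimageIso E⟩)
  · intro h G ⟨eG⟩
    obtain ⟨k⟩ := key G eG
    exact isPC_of_iso k.symm (h inferInstance)

/-- A pseudo-coherent surjection can be cancelled. -/
theorem cpc_comp {π : A' →+* A} (hπs : Function.Surjective π) (hπ : RelPCLib.PH π) {U : X.Opens}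
    (hU : IsAffineOpen U) {ψ : A →+* Γ(X, U)} (hψ : Function.Surjective ψ) (m : ℤ) (E : DCoh.D X) :
    CPC m E U (ψ.comp π) ↔ CPC m E U ψ := by
  haveI := isClosedImmersion_imm hU hψ
  haveI := isClosedImmersion_imm hU (show Function.Surjective (ψ.comp π) from hψ.comp hπs)
  haveI := IsClosedImmersion.spec_of_surjective (CommRingCat.ofHom π) hπs
  have h : imm U (ψ.comp π) = imm U ψ ≫ Spec.map (CommRingCat.ofHom π) := by
    simp only [imm, CommRingCat.ofHom_comp, Spec.map_comp, Category.assoc]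
  obtain ⟨c⟩ := nonempty_push_congr h ((resD U.ι).obj E)
  have k := pcPushUnit_iff_comp (j := imm U ψ) (pcPushUnit_spec π hπ) ((resD U.ι).obj E) m
  exact ⟨fun hp _ => k.1 (isPC_of_iso c (hp inferInstance)),
    fun hp _ => isPC_of_iso c.symm (k.2 (hp inferInstance))⟩

/-- The test does not depend on the presentation. -/
theorem cpc_indep {R : Type u} [CommRing R] {σ τ : Type} [Finite σ] [Finite τ] {U : X.Opens}
    (hU : IsAffineOpen U) [Algebra R Γ(X, U)] (α : MvPolynomial σ R →ₐ[R] Γ(X, U))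
    (hα : Function.Surjective α) (β : MvPolynomial τ R →ₐ[R] Γ(X, U)) (hβ : Function.Surjective β)
    (m : ℤ) (E : DCoh.D X) : CPC m E U α.toRingHom ↔ CPC m E U β.toRingHom := by
  choose g hg using fun j => hα (β (MvPolynomial.X j))
  choose h hh using fun i => hβ (α (MvPolynomial.X i))
  let π : MvPolynomial (σ ⊕ τ) R →ₐ[R] MvPolynomial σ R := MvPolynomial.aeval (Sum.elim MvPolynomial.X g)
  let π' : MvPolynomial (σ ⊕ τ) R →ₐ[R] MvPolynomial τ R := MvPolynomial.aeval (Sum.elim h MvPolynomial.X)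
  have hc : α.comp π = β.comp π' := by
    refine MvPolynomial.algHom_ext fun i => ?_
    rcases i with i | i <;> simp [π, π', hg, hh]
  have s : Function.Surjective π := fun p => ⟨MvPolynomial.rename Sum.inl p,
    (MvPolynomial.aeval_rename Sum.inl (Sum.elim MvPolynomial.X g) p).trans
      (MvPolynomial.aeval_X_left_apply p)⟩
  have s' : Function.Surjective π' := fun p => ⟨MvPolynomial.rename Sum.inr p,
    (MvPolynomial.aeval_rename Sum.inr (Sum.elim h MvPolynomial.X) p).trans
      (MvPolynomial.aeval_X_left_apply p)⟩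
  have e : α.toRingHom.comp π.toRingHom = β.toRingHom.comp π'.toRingHom :=
    congrArg AlgHom.toRingHom hc
  rw [← cpc_comp (π := π.toRingHom) s (RelPCLib.ph_retract g) hU (ψ := α.toRingHom) hα m E,
    ← cpc_comp (π := π'.toRingHom) s' (RelPCLib.ph_retract' h) hU (ψ := β.toRingHom) hβ m E, e]

theorem imm_preimage_basicOpen (U : X.Opens) (ψ : A →+* Γ(X, U)) (a : A) :
    imm U ψ ⁻¹ᵁ PrimeSpectrum.basicOpen a = U.ι ⁻¹ᵁ X.basicOpen (ψ a) := by
  change U.toSpecΓ ⁻¹ᵁ PrimeSpectrum.basicOpen (ψ a) = _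
  rw [Scheme.Opens.toSpecΓ, Scheme.Hom.comp_preimage]
  change U.toScheme.toSpecΓ ⁻¹ᵁ PrimeSpectrum.basicOpen (U.topIso.inv (ψ a)) = _
  rw [Scheme.toSpecΓ_preimage_basicOpen]
  exact ((congrArg (U.ι ⁻¹ᵁ ·) (Scheme.Opens.ι_image_basicOpen_topIso_inv (U := U) (ψ a))).symm.trans
    (U.ι.preimage_image_eq _)).symm

/-- Restriction to a basic open. -/
theorem exists_res_basic {U O : X.Opens} (hU : IsAffineOpen U) {ψ : A →+* Γ(X, U)}
    (hψ : Function.Surjective ψ) (a : A) (hOa : O = X.basicOpen (ψ a)) (hO : IsAffineOpen O)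
    (hle : O ≤ U) :
    ∃ (ψ' : Localization.Away a →+* Γ(X, O)), Function.Surjective ψ' ∧
      ψ'.comp (algebraMap A (Localization.Away a)) = (X.presheaf.map (homOfLE hle).op).hom.comp ψ ∧
      ∀ (E : DCoh.D X) [IsClosedImmersion (imm U ψ)] [IsClosedImmersion (imm O ψ')],
        Nonempty ((resD (Spec.map (CommRingCat.ofHom (algebraMap A (Localization.Away a))))).obj
            ((pushD (imm U ψ)).obj ((resD U.ι).obj E)) ≅
          (pushD (imm O ψ')).obj ((resD O.ι).obj E)) := by
  letI := (X.presheaf.map (homOfLE hle).op).hom.toAlgebra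
  haveI : IsLocalization.Away (ψ a) Γ(X, O) := hU.isLocalization_of_eq_basicOpen (ψ a) (homOfLE hle) hOa
  let ψ' : Localization.Away a →+* Γ(X, O) :=
    IsLocalization.Away.lift a (g := (algebraMap Γ(X, U) Γ(X, O)).comp ψ)
      (IsLocalization.Away.algebraMap_isUnit (ψ a))
  have hcomp : ψ'.comp (algebraMap A (Localization.Away a)) = (algebraMap Γ(X, U) Γ(X, O)).comp ψ :=
    IsLocalization.lift_comp _
  refine ⟨ψ', ?_, hcomp, ?_⟩
  · intro z
    obtain ⟨k, y, hy⟩ := IsLocalization.Away.surj (ψ a) z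
    obtain ⟨x, rfl⟩ := hψ y
    refine ⟨algebraMap A _ x * IsLocalization.Away.invSelf a ^ k, ?_⟩
    refine ((IsLocalization.Away.algebraMap_isUnit (S := Γ(X, O)) (ψ a)).pow k).mul_right_cancel ?_
    rw [hy, map_mul, map_pow]
    have h1 := RingHom.congr_fun hcomp a
    have h2 := RingHom.congr_fun hcomp x
    simp only [RingHom.comp_apply] at h1 h2
    rw [h2, mul_assoc, ← mul_pow, ← h1, ← map_mul, mul_comm (IsLocalization.Away.invSelf a),
      IsLocalization.Away.mul_invSelf, map_one, one_pow, mul_one]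
  · intro E _ _
    let q := Spec.map (CommRingCat.ofHom (algebraMap A (Localization.Away a)))
    have hsq : X.homOfLE hle ≫ imm U ψ = imm O ψ' ≫ q := by
      simp only [imm, q, Category.assoc, ← Spec.map_comp, ← CommRingCat.ofHom_comp, hcomp]
      rw [← Scheme.Opens.toSpecΓ_SpecMap_presheaf_map_assoc, ← Spec.map_comp]
      rfl
    have hq : q.opensRange = PrimeSpectrum.basicOpen a := by
      ext1
      exact PrimeSpectrum.localization_away_comap_range (Localization.Away a) a
    have hpb : IsPullback (imm O ψ') (X.homOfLE hle) q (imm U ψ) :=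
      IsOpenImmersion.isPullback _ _ _ _ hsq (by
        rw [Scheme.opensRange_homOfLE, hq, imm_preimage_basicOpen, hOa])
    obtain ⟨c⟩ := nonempty_res_push hpb ((resD U.ι).obj E)
    obtain ⟨d⟩ := Groth.Agent.PerfLib.nonempty_resD_comp (X.homOfLE hle) U.ι E
    obtain ⟨e⟩ := Groth.Agent.PerfLib.nonempty_resD_congr (X.homOfLE_ι hle) E
    exact ⟨c ≪≫ (pushD (imm O ψ')).mapIso (d.symm ≪≫ e)⟩

/-- A cover by basic opens tests the whole. -/
theorem cpc_of_cover {U : X.Opens} {ψ : A →+* Γ(X, U)} (m : ℤ) (E : DCoh.D X) {ι : Type*} (a : ι → A)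
    (hcov : ∀ x : U, ∃ i, (x : X) ∈ X.basicOpen (ψ (a i)))
    (h : ∀ i, ∀ h : IsClosedImmersion (imm U ψ), haveI := h
      DCoh.IsPseudoCoherentD m
        ((resD (Spec.map (CommRingCat.ofHom (algebraMap A (Localization.Away (a i)))))).obj
          ((pushD (imm U ψ)).obj ((resD U.ι).obj E)))) :
    CPC m E U ψ := by
  intro hi
  refine Groth.Agent.PerfLib.isPC_local fun y => ?_
  by_cases hy : y ∈ Set.range (imm U ψ)
  · obtain ⟨x, rfl⟩ := hy
    obtain ⟨i, hxi⟩ := hcov x
    obtain ⟨v, hv⟩ : imm U ψ x ∈ Set.range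
        (Spec.map (CommRingCat.ofHom (algebraMap A (Localization.Away (a i))))) := by
      refine (PrimeSpectrum.localization_away_comap_range (Localization.Away (a i)) (a i)).ge ?_
      exact (imm_preimage_basicOpen U ψ (a i)).ge hxi
    exact ⟨_, _, inferInstance, v, hv, h i hi⟩
  · let W : (Spec (CommRingCat.of A)).Opens :=
      ⟨(Set.range (imm U ψ))ᶜ, (imm U ψ).isClosedEmbedding.isClosed_range.isOpen_compl⟩
    exact ⟨W, W.ι, inferInstance, ⟨y, hy⟩, rfl, Groth.Agent.PerfLib.isPC_of_isZero_above fun j _ =>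
      (DerivedCategory.homologyFunctor _ j).map_isZero
        (Groth.Agent.ImmPCLib.isZero_res_push (imm U ψ) W (fun z hz => hz ⟨z, rfl⟩) _)⟩

end Groth.Agent.RelPCSchLib
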