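import Groth.Agent.ImmPCLib.Bounded
import Groth.Agent.RelPCSchLib.Comp

/-!
# Composition with a base which is pseudo-coherent in one degree
-/

set_option autoImplicit false
set_option linter.style.haveILetI false
set_option backward.isDefEq.respectTransparency false
set_option backward.isDefEq.respectTransparency.types false

universe u

open CategoryTheory CategoryTheory.Limits AlgebraicGeometry TopologicalSpace Opposite

attribute [local instance] HasDerivedCategory.standard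

namespace Groth.Agent.RelPCSchLib

open Groth.Agent.PerfLib (resD res resDQIso isPC_of_iso)
open Groth.Agent.ImmPCLib (pushD lim_push colim_push PCPushUnitAt)

attribute [local instance] lim_push colim_push

/-- `π` is `k`-pseudo-coherent as a module map. -/
def PHAt {P Q : Type u} [CommRing P] [CommRing Q] (π : P →+* Q) (k : ℤ) : Prop :=
  RelPCLib.PV π k (Dual.inD Q Q)

theorem pcPushUnitAt_spec {A B : Type u} [CommRing A] [CommRing B] (π : A →+* B) {k : ℤ} (hπ : PHAt π k)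
    [IsClosedImmersion (Spec.map (CommRingCat.ofHom π))] :
    PCPushUnitAt (Spec.map (CommRingCat.ofHom π)) k := by
  haveI : PreservesFiniteLimits (tilde.functor (CommRingCat.of A)) :=
    HensSchLib.tilde_preservesFiniteLimits _
  obtain ⟨θ⟩ := TildeDerLib.nonempty_pushTildeIso (CommRingCat.ofHom π)
  exact isPC_of_iso
    (((tilde.functor (CommRingCat.of A)).mapDerivedCategorySingleFunctor 0).app _ ≪≫
      (DerivedCategory.singleFunctor _ 0).mapIso ((θ.app (ModuleCat.of B B)).symm ≪≫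
        (Scheme.Modules.pushforward (Spec.map (CommRingCat.ofHom π))).mapIso tildeSelf))
    (TildePCLib.isPC_tildeD (DRingLib.isPseudoCoherent_of_iso
      (RelPCLib.restrictInD π (ModuleCat.of B B)) hπ))

theorem phAt_map {P Q : Type u} [CommRing P] [CommRing Q] (χ : P →+* Q) {k : ℤ} (h : PHAt χ k) (σ : Type) :
    PHAt (MvPolynomial.map (σ := σ) χ) k := by
  letI := χ.toAlgebra
  letI : Algebra (MvPolynomial σ P) (MvPolynomial σ Q) := MvPolynomial.algebraMvPolynomial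
  have h1 : DRing.IsPseudoCoherentModule P k Q := DRingLib.isPseudoCoherent_of_iso
    (RelPCLib.restrictInD (algebraMap P Q) (ModuleCat.of Q Q) ≪≫
      (DerivedCategory.singleFunctor (ModuleCat.{u} P) 0).mapIso
        (LinearEquiv.toModuleIso ({ AddEquiv.refl Q with map_smul' := fun r x => Algebra.smul_def r x } :
          Q ≃ₗ[P] ((ModuleCat.restrictScalars.{u} (algebraMap P Q)).obj (ModuleCat.of Q Q)))).symm) h
  have h2 := DRingLib.isPseudoCoherent_extCx (algebraMap P (MvPolynomial σ P))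
    (RingHom.flat_algebraMap_iff.2 inferInstance)
    (K := (HomologicalComplex.single (ModuleCat.{u} P) (ComplexShape.up ℤ) 0).obj (ModuleCat.of P Q))
    (DRingLib.isPseudoCoherent_of_iso
      ((DerivedCategory.singleFunctorIsoCompQ (ModuleCat.{u} P) 0).app (ModuleCat.of P Q)) h1)
  have h3 : DRing.IsPseudoCoherentModule (MvPolynomial σ P) k (MvPolynomial σ Q) :=
    DRingLib.isPseudoCoherentModule_of_equiv
      (Algebra.IsPushout.equiv P (MvPolynomial σ P) Q (MvPolynomial σ Q)).toLinearEquiv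
      (DRingLib.isPseudoCoherent_of_iso (DRingLib.extCxSingleIso Q) h2)
  exact DRingLib.isPseudoCoherent_of_iso
    ((DerivedCategory.singleFunctor (ModuleCat.{u} (MvPolynomial σ P)) 0).mapIso
        (LinearEquiv.toModuleIso ({ AddEquiv.refl (MvPolynomial σ Q) with
            map_smul' := fun r x => Algebra.smul_def r x } :
          MvPolynomial σ Q ≃ₗ[MvPolynomial σ P] ((ModuleCat.restrictScalars.{u}
            (algebraMap (MvPolynomial σ P) (MvPolynomial σ Q))).obj (ModuleCat.of _ (MvPolynomial σ Q))))) ≪≫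
      (RelPCLib.restrictInD (algebraMap (MvPolynomial σ P) (MvPolynomial σ Q))
        (ModuleCat.of _ (MvPolynomial σ Q))).symm) h3

variable {X T S : Scheme.{u}}

theorem cpc_comp_dir {A A' : Type u} [CommRing A] [CommRing A'] {π : A' →+* A}
    (hπs : Function.Surjective π) {k : ℤ} (hπ : PHAt π k) {U : X.Opens} (hU : IsAffineOpen U)
    {ψ : A →+* Γ(X, U)} (hψ : Function.Surjective ψ) (m b : ℤ) (E : DCoh.D X)
    (hb : ∀ i, b < i → IsZero (DCoh.HD E i)) :
    (k ≤ m - b → CPC m E U ψ → CPC m E U (ψ.comp π)) ∧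
      (k ≤ m + 1 - b → CPC m E U (ψ.comp π) → CPC m E U ψ) := by
  haveI := isClosedImmersion_imm hU hψ
  haveI := isClosedImmersion_imm hU (show Function.Surjective (ψ.comp π) from hψ.comp hπs)
  haveI := IsClosedImmersion.spec_of_surjective (CommRingCat.ofHom π) hπs
  have h : imm U (ψ.comp π) = imm U ψ ≫ Spec.map (CommRingCat.ofHom π) := by
    simp only [imm, CommRingCat.ofHom_comp, Spec.map_comp, Category.assoc]
  obtain ⟨c⟩ := nonempty_push_congr h ((resD U.ι).obj E)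
  obtain ⟨d⟩ := nonempty_push_comp (imm U ψ) (Spec.map (CommRingCat.ofHom π)) ((resD U.ι).obj E)
  obtain ⟨g₁, g₂⟩ := Groth.Agent.ImmPCLib.dir_bdd (b + 1 - m).toNat (Spec.map (CommRingCat.ofHom π)) k
    (pcPushUnitAt_spec π hπ) ((pushD (imm U ψ)).obj ((resD U.ι).obj E)) b m (Int.self_le_toNat _)
    fun i hi => (Groth.Agent.ImmPCLib.isZero_HD_push_iff (imm U ψ) _ i).2
      (((res U.ι).map_isZero (hb i hi)).of_iso (Groth.Agent.PerfLib.resHDIso U.ι E i))
  exact ⟨fun hk hp _ => isPC_of_iso (d ≪≫ c.symm) (g₁ hk (hp inferInstance)),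
    fun hk hp _ => g₂ hk (isPC_of_iso (c ≪≫ d.symm) (hp inferInstance))⟩

variable (a : X ⟶ T) (g : T ⟶ S)

/-- The base has presentations pseudo-coherent in degree `k`. -/
def PHBaseAt (k : ℤ) : Prop :=
  ∀ (W : T.Opens) (V : S.Opens), IsAffineOpen W → IsAffineOpen V → ∀ h : W ≤ g ⁻¹ᵁ V,
    ∃ (r : ℕ) (χ : MvPolynomial (Fin r) Γ(S, V) →+* Γ(T, W)), DerSch.IsChart g W V h χ ∧ PHAt χ k

theorem mod_unit {W : T.Opens} (hW : IsAffineOpen W) :
    haveI := FlatRelPCLib.tildeExact (T.presheaf.obj (op W))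
    FlatRelPCLib.Mod (DCoh.toD T (DerSch.unitCx T)) hW (Dual.inD Γ(T, W) Γ(T, W)) := by
  let A := T.presheaf.obj (op W)
  haveI : PreservesFiniteLimits (tilde.functor A) := FlatRelPCLib.tildeExact A
  exact
    ⟨((tilde.functor A).mapDerivedCategorySingleFunctor 0).app (ModuleCat.of A A) ≪≫
      (DerivedCategory.singleFunctor _ 0).mapIso
        (tildeSelf ≪≫ (Scheme.Modules.restrictUnitIso hW.fromSpec).symm) ≪≫
      (((res hW.fromSpec).mapDerivedCategorySingleFunctor 0).app (Coh.structureModule T)).symm ≪≫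
      (resD hW.fromSpec).mapIso ((DerivedCategory.singleFunctorIsoCompQ T.Modules 0).app _)⟩

theorem cpc_unit_iff {W : T.Opens} (hW : IsAffineOpen W) {V : S.Opens} {r : ℕ}
    (χ : MvPolynomial (Fin r) Γ(S, V) →+* Γ(T, W)) (hχ : Function.Surjective χ) (k : ℤ) :
    CPC k (DCoh.toD T (DerSch.unitCx T)) W χ ↔ PHAt χ k :=
  (chartPC_iff k _ hW V χ hχ).symm.trans (FlatRelPCLib.chartPC_iff hW χ hχ (mod_unit hW) k)

theorem phBaseAt_of_nPC [LocallyOfFiniteType g] {k : ℤ} (hg : DerSch.IsNPseudoCoherent g k) :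
    PHBaseAt g k := by
  intro W V hW hV h
  obtain ⟨r, χ, hχ⟩ := exists_isChart g hW hV h
  exact ⟨r, χ, hχ, (cpc_unit_iff hW χ hχ.1 k).1 (rpc_of_rel g hg hW hV h r χ hχ)⟩

theorem rpc_comp_dir [LocallyOfFiniteType a] [LocallyOfFiniteType g] {k : ℤ} (hg : PHBaseAt g k)
    {m b : ℤ} {E : DCoh.D X} (hb : ∀ i, b < i → IsZero (DCoh.HD E i))
    {U : X.Opens} (hU : IsAffineOpen U) {W : T.Opens} (hW : IsAffineOpen W)
    {V : S.Opens} (hV : IsAffineOpen V) (h₁ : U ≤ a ⁻¹ᵁ W) (h₂ : W ≤ g ⁻¹ᵁ V)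
    (h : U ≤ (a ≫ g) ⁻¹ᵁ V) :
    (k ≤ m - b → RPC a m E U W h₁ → RPC (a ≫ g) m E U V h) ∧
      (k ≤ m + 1 - b → RPC (a ≫ g) m E U V h → RPC a m E U W h₁) := by
  obtain ⟨r, χ, hχ, hph⟩ := hg W V hW hV h₂
  obtain ⟨n, ψ, hψ⟩ := exists_isChart a hU hW h₁
  let e := MvPolynomial.sumAlgEquiv Γ(S, V) (Fin n) (Fin r)
  let π : MvPolynomial (Fin n ⊕ Fin r) Γ(S, V) →+* MvPolynomial (Fin n) Γ(T, W) :=
    (MvPolynomial.map χ).comp e.toRingEquiv.toRingHom
  have hπs : Function.Surjective π := (MvPolynomial.map_surjective χ hχ.1).comp e.surjective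
  have hπ : PHAt π k :=
    (RelPCLib.pv_comp (RelPCLib.ph_of_bijective _ e.bijective) _ k _).2 (phAt_map χ hph _)
  have hC : (ψ.comp π).comp MvPolynomial.C = ((a ≫ g).appLE V U h).hom := by
    refine RingHom.ext fun r => ?_
    change ψ (MvPolynomial.map χ (e (MvPolynomial.C r))) = _
    rw [MvPolynomial.sumAlgEquiv_C_inl, MvPolynomial.map_C]
    refine (RingHom.congr_fun hψ.2 _).trans ?_
    rw [show χ (MvPolynomial.C r) = g.appLE V W h₂ r from RingHom.congr_fun hχ.2 r,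
      ← Scheme.Hom.appLE_comp_appLE a g V W U h₂ h₁]
    rfl
  obtain ⟨d₁, d₂⟩ := cpc_comp_dir hπs hπ hU (ψ := ψ) hψ.1 m b E hb
  exact ⟨fun hk hr => rpc_of_cpc (a ≫ g) hU _ (hψ.1.comp hπs) hC (d₁ hk (hr n ψ hψ)),
    fun hk hr => rpc_of_cpc a hU ψ hψ.1 hψ.2
      (d₂ hk (cpc_of_rpc (a ≫ g) hU hV hr _ (hψ.1.comp hπs) hC))⟩

theorem rel_comp_dir [LocallyOfFiniteType a] [LocallyOfFiniteType g] {k : ℤ} (hg : PHBaseAt g k)
    {m b : ℤ} {E : DCoh.D X} (hb : ∀ i, b < i → IsZero (DCoh.HD E i)) :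
    (k ≤ m - b → DerSch.IsPseudoCoherentRel a m E → DerSch.IsPseudoCoherentRel (a ≫ g) m E) ∧
      (k ≤ m + 1 - b → DerSch.IsPseudoCoherentRel (a ≫ g) m E → DerSch.IsPseudoCoherentRel a m E) := by
  constructor
  · intro hk hE
    refine rel_of_pairs (a ≫ g) Set.univ ?_ ?_
    · intro t
      obtain ⟨_, ⟨V, hV, rfl⟩, htV, -⟩ :=
        S.isBasis_affineOpens.exists_subset_of_mem_open (Set.mem_univ t) isOpen_univ
      exact ⟨⟨V, hV⟩, trivial, htV⟩
    · intro V _ x hx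
      obtain ⟨_, ⟨W, hW, rfl⟩, hxW, hWV⟩ := T.isBasis_affineOpens.exists_subset_of_mem_open
        (show a x ∈ g ⁻¹ᵁ (V : S.Opens) from hx) (g ⁻¹ᵁ (V : S.Opens)).2
      obtain ⟨_, ⟨U, hU, rfl⟩, hxU, hUW⟩ :=
        X.isBasis_affineOpens.exists_subset_of_mem_open (show x ∈ a ⁻¹ᵁ W from hxW) (a ⁻¹ᵁ W).2
      exact ⟨U, hU, fun y hy => hWV (hUW hy), hxU,
        (rpc_comp_dir a g hg hb hU hW V.2 hUW hWV (fun y hy => hWV (hUW hy))).1 hk
          (rpc_of_rel a hE hU hW hUW)⟩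
  · intro hk hE
    refine rel_of_pairs a {W | ∃ (V : S.affineOpens), (W : T.Opens) ≤ g ⁻¹ᵁ (V : S.Opens)} ?_ ?_
    · intro t
      obtain ⟨_, ⟨V, hV, rfl⟩, htV, -⟩ :=
        S.isBasis_affineOpens.exists_subset_of_mem_open (Set.mem_univ (g t)) isOpen_univ
      obtain ⟨_, ⟨W, hW, rfl⟩, htW, hWV⟩ :=
        T.isBasis_affineOpens.exists_subset_of_mem_open (show t ∈ g ⁻¹ᵁ V from htV) (g ⁻¹ᵁ V).2
      exact ⟨⟨W, hW⟩, ⟨⟨V, hV⟩, hWV⟩, htW⟩
    · rintro W ⟨V, hWV⟩ x hx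
      obtain ⟨_, ⟨U, hU, rfl⟩, hxU, hUW⟩ :=
        X.isBasis_affineOpens.exists_subset_of_mem_open (show x ∈ a ⁻¹ᵁ (W : T.Opens) from hx)
          (a ⁻¹ᵁ (W : T.Opens)).2
      exact ⟨U, hU, hUW, hxU,
        (rpc_comp_dir a g hg hb hU W.2 V.2 hUW hWV (fun y hy => hWV (hUW hy))).2 hk
          (rpc_of_rel (a ≫ g) hE hU V.2 _)⟩

theorem isZero_HD_unitCx (W : Scheme.{u}) (i : ℤ) (hi : 0 < i) :
    IsZero (DCoh.HD (DCoh.toD W (DerSch.unitCx W)) i) :=
  Groth.Agent.PerfLib.isZero_HD_of_exactAt (HomologicalComplex.exactAt_single_obj _ _ _ _ (by omega))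

theorem rel_mono {f : X ⟶ S} {m m' : ℤ} (hm : m ≤ m') {E : DCoh.D X}
    (hE : DerSch.IsPseudoCoherentRel f m E) : DerSch.IsPseudoCoherentRel f m' E := by
  haveI := hE.1
  exact rel_of_rpc f fun U V h n φ hφ hi =>
    Groth.Agent.PerfLib.isPC_mono hm (rpc_of_rel f hE U.2 V.2 h n φ hφ hi)

end Groth.Agent.RelPCSchLib
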