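import Groth.Agent.RelPCSchLib.CompDeg

/-!
# Degree `-1`: locally of finite presentation
-/

set_option autoImplicit false
set_option linter.style.haveILetI false
set_option backward.isDefEq.respectTransparency false
set_option backward.isDefEq.respectTransparency.types false

universe u

open CategoryTheory CategoryTheory.Limits AlgebraicGeometry TopologicalSpace Opposite

attribute [local instance] HasDerivedCategory.standard

namespace Groth.Agent.RelPCSchLib

theorem phAt_neg_one_iff {P Q : Type u} [CommRing P] [CommRing Q] (π : P →+* Q)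
    (hπ : Function.Surjective π) : PHAt π (-1) ↔ (RingHom.ker π).FG := by
  letI := π.toAlgebra
  let l : ((ModuleCat.restrictScalars.{u} π).obj (ModuleCat.of Q Q)) ≃ₗ[P] Q :=
    { toFun := fun x => (x : Q)
      invFun := fun x => x
      map_add' := fun _ _ => rfl
      map_smul' := fun r x => (Algebra.smul_def (A := Q) r (x : Q)).symm
      left_inv := fun _ => rfl
      right_inv := fun _ => rfl }
  let Nπ := (ModuleCat.restrictScalars.{u} π).obj (ModuleCat.of Q Q)
  let K : Dual.D P := (DerivedCategory.singleFunctor (ModuleCat.{u} P) 0).obj Nπ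
  have hz : ∀ i, (-1 : ℤ) + 1 < i → IsZero ((DRingLib.Hn P i).obj K) := fun i hi =>
    DerivedCategory.isZero_of_isLE K 0 i (by omega)
  let eH : (DRingLib.Hn P (-1 + 1)).obj K ≅ Nπ :=
    (DerivedCategory.singleFunctorCompHomologyFunctorIso (ModuleCat.{u} P) 0).app Nπ
  have hk : LinearMap.ker (Algebra.linearMap P Q) = (RingHom.ker π : Submodule P P) := rfl
  refine (RelPCLib.pv_module_iff π (-1) (ModuleCat.of Q Q)).trans ?_
  rw [← hk]
  change DRing.IsPseudoCoherentModule P (-1) Nπ ↔ _
  constructor
  · intro h
    haveI := DRingLib.finitePresentation_of_isPseudoCoherent (K := K) h hz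
    haveI : Module.FinitePresentation P Q := Module.FinitePresentation.of_equiv (eH.toLinearEquiv.trans l)
    exact Module.FinitePresentation.fg_ker (Algebra.linearMap P Q) hπ
  · intro h
    haveI : Module.FinitePresentation P Q :=
      Module.finitePresentation_of_surjective (Algebra.linearMap P Q) hπ h
    refine DRingLib.isPseudoCoherent_of_finitePresentation (K := K) hz
      (Module.FinitePresentation.of_equiv (eH.toLinearEquiv.trans l).symm) ?_
    haveI := ModuleCat.subsingleton_of_isZero (DerivedCategory.isZero_of_isGE K 0 (-1) (by omega))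
    exact inferInstanceAs (Module.Finite P ((DRingLib.Hn P (-1)).obj K))

variable {X Y : Scheme.{u}} (f : X ⟶ Y) [LocallyOfFiniteType f]

theorem nPC_neg_one_iff : DerSch.IsNPseudoCoherent f (-1) ↔ LocallyOfFinitePresentation f := by
  constructor
  · intro hf
    refine ⟨fun {V} hV {U} hU h => ?_⟩
    obtain ⟨r, χ, hχ⟩ := exists_isChart f hU hV h
    have hk := (phAt_neg_one_iff χ hχ.1).1
      ((cpc_unit_iff hU χ hχ.1 _).1 (rpc_of_rel f hf hU hV h r χ hχ))
    letI := (f.appLE V U h).hom.toAlgebra
    let α : MvPolynomial (Fin r) Γ(Y, V) →ₐ[Γ(Y, V)] Γ(X, U) :=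
      { χ with commutes' := fun x => RingHom.congr_fun hχ.2 x }
    exact (Algebra.FinitePresentation.of_surjective (f := α) hχ.1 hk :
      Algebra.FinitePresentation Γ(Y, V) Γ(X, U))
  · intro hf
    refine rel_of_rpc f fun U V h n χ hχ => ?_
    refine (cpc_unit_iff U.2 χ hχ.1 _).2 ((phAt_neg_one_iff χ hχ.1).2 ?_)
    letI := (f.appLE V.1 U.1 h).hom.toAlgebra
    haveI : Algebra.FinitePresentation Γ(Y, V.1) Γ(X, U.1) := f.finitePresentation_appLE V.2 U.2 h
    let α : MvPolynomial (Fin n) Γ(Y, V.1) →ₐ[Γ(Y, V.1)] Γ(X, U.1) :=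
      { χ with commutes' := fun x => RingHom.congr_fun hχ.2 x }
    exact Algebra.FinitePresentation.ker_fG_of_surjective α hχ.1

end Groth.Agent.RelPCSchLib
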