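import Groth.Agent.RelPCSchLib.Chart
import Mathlib.RingTheory.MvPolynomial.Localization

/-!
# Relative pseudo-coherence on all affine pairs, for arbitrary objects
-/

set_option autoImplicit false
set_option linter.style.haveILetI false
set_option backward.isDefEq.respectTransparency false
set_option backward.isDefEq.respectTransparency.types false

universe u

open CategoryTheory CategoryTheory.Limits AlgebraicGeometry TopologicalSpace Opposite

attribute [local instance] HasDerivedCategory.standard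

namespace Groth.Agent.RelPCSchLib

open Groth.Agent.PerfLib (resD isPC_of_iso)
open Groth.Agent.ImmPCLib (pushD lim_push colim_push)

attribute [local instance] lim_push colim_push

variable {X S : Scheme.{u}} (f : X ⟶ S)

/-- The test on a pair of affine opens, by any chart. -/
def RPC (m : ℤ) (E : DCoh.D X) (U : X.Opens) (V : S.Opens) (h : U ≤ f ⁻¹ᵁ V) : Prop :=
  ∀ (n : ℕ) (φ : MvPolynomial (Fin n) Γ(S, V) →+* Γ(X, U)), DerSch.IsChart f U V h φ → CPC m E U φ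

theorem exists_isChart [LocallyOfFiniteType f] {U : X.Opens} (hU : IsAffineOpen U) {V : S.Opens}
    (hV : IsAffineOpen V) (h : U ≤ f ⁻¹ᵁ V) :
    ∃ (n : ℕ) (φ : MvPolynomial (Fin n) Γ(S, V) →+* Γ(X, U)), DerSch.IsChart f U V h φ := by
  letI := (f.appLE V U h).hom.toAlgebra
  haveI : Algebra.FiniteType Γ(S, V) Γ(X, U) := f.finiteType_appLE hV hU h
  obtain ⟨n, α, hα⟩ := RelPCLib.exists_pres Γ(S, V) Γ(X, U)
  exact ⟨n, α.toRingHom, hα, α.comp_algebraMap⟩

/-- Two presentations over the same base give the same test. -/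
theorem cpc_indep' {R : Type u} [CommRing R] {U : X.Opens} (hU : IsAffineOpen U) {σ τ : Type}
    [Finite σ] [Finite τ] (φ : MvPolynomial σ R →+* Γ(X, U)) (hφ : Function.Surjective φ)
    (ψ : MvPolynomial τ R →+* Γ(X, U)) (hψ : Function.Surjective ψ)
    (hc : φ.comp MvPolynomial.C = ψ.comp MvPolynomial.C) (m : ℤ) (E : DCoh.D X) :
    CPC m E U φ ↔ CPC m E U ψ := by
  letI := (φ.comp MvPolynomial.C).toAlgebra
  exact cpc_indep hU { φ with commutes' := fun _ => rfl } hφ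
    { ψ with commutes' := fun r => (RingHom.congr_fun hc r).symm } hψ m E

theorem cpc_of_rpc [LocallyOfFiniteType f] {m : ℤ} {E : DCoh.D X} {U : X.Opens} (hU : IsAffineOpen U)
    {V : S.Opens} (hV : IsAffineOpen V) {h : U ≤ f ⁻¹ᵁ V} (hr : RPC f m E U V h) {σ : Type} [Finite σ]
    (ψ : MvPolynomial σ Γ(S, V) →+* Γ(X, U)) (hψ : Function.Surjective ψ)
    (hC : ψ.comp MvPolynomial.C = (f.appLE V U h).hom) : CPC m E U ψ := by
  obtain ⟨n, φ, hφ⟩ := exists_isChart f hU hV h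
  exact (cpc_indep' hU φ hφ.1 ψ hψ (hφ.2.trans hC.symm) m E).1 (hr n φ hφ)

theorem rpc_of_cpc {m : ℤ} {E : DCoh.D X} {U : X.Opens} (hU : IsAffineOpen U) {V : S.Opens}
    {h : U ≤ f ⁻¹ᵁ V} {σ : Type} [Finite σ] (ψ : MvPolynomial σ Γ(S, V) →+* Γ(X, U))
    (hψ : Function.Surjective ψ) (hC : ψ.comp MvPolynomial.C = (f.appLE V U h).hom)
    (hc : CPC m E U ψ) : RPC f m E U V h :=
  fun _ φ hφ => (cpc_indep' hU ψ hψ φ hφ.1 (hC.trans hφ.2.symm) m E).1 hc

/-- A chart gives the test. -/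
theorem rpc_of_chart {m : ℤ} {E : DCoh.D X} {U : X.Opens} (hU : IsAffineOpen U) {V : S.Opens}
    (h : U ≤ f ⁻¹ᵁ V) {n : ℕ} (φ : MvPolynomial (Fin n) Γ(S, V) →+* Γ(X, U))
    (hφ : DerSch.IsChart f U V h φ) (hc : DerSch.ChartPC m E U V φ) : RPC f m E U V h :=
  rpc_of_cpc f hU φ hφ.1 hφ.2 ((chartPC_iff m E hU V φ hφ.1).1 hc)

/-- The test gives a chart. -/
theorem exists_chart_of_rpc [LocallyOfFiniteType f] {m : ℤ} {E : DCoh.D X} {U : X.Opens}
    (hU : IsAffineOpen U) {V : S.Opens} (hV : IsAffineOpen V) (h : U ≤ f ⁻¹ᵁ V) (hr : RPC f m E U V h) :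
    ∃ (n : ℕ) (φ : MvPolynomial (Fin n) Γ(S, V) →+* Γ(X, U)),
      DerSch.IsChart f U V h φ ∧ DerSch.ChartPC m E U V φ := by
  obtain ⟨n, φ, hφ⟩ := exists_isChart f hU hV h
  exact ⟨n, φ, hφ, (chartPC_iff m E hU V φ hφ.1).2 (hr n φ hφ)⟩

/-- A presentation of a basic open from one of the ambient open. -/
theorem exists_basic_pres {U O : X.Opens} (hU : IsAffineOpen U) (hO : IsAffineOpen O) {V : S.Opens}
    (h : U ≤ f ⁻¹ᵁ V) (h' : O ≤ f ⁻¹ᵁ V) {n : ℕ}
    (φ : MvPolynomial (Fin n) Γ(S, V) →+* Γ(X, U)) (hφ : DerSch.IsChart f U V h φ)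
    (a : MvPolynomial (Fin n) Γ(S, V)) (hOa : O = X.basicOpen (φ a)) :
    ∃ β : MvPolynomial (Option (Fin n)) Γ(S, V) →+* Γ(X, O), Function.Surjective β ∧
      β.comp MvPolynomial.C = (f.appLE V O h').hom ∧
      ∀ (m : ℤ) (E : DCoh.D X) (hi : IsClosedImmersion (imm U φ)), haveI := hi
        (CPC m E O β ↔ DCoh.IsPseudoCoherentD m
          ((resD (Spec.map (CommRingCat.ofHom (algebraMap _ (Localization.Away a))))).obj
            ((pushD (imm U φ)).obj ((resD U.ι).obj E)))) := by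
  have hle : O ≤ U := hOa ▸ X.basicOpen_le (φ a)
  obtain ⟨ψ', hs, hcomp, hres⟩ := exists_res_basic hU (ψ := φ) hφ.1 a hOa hO hle
  let e := MvPolynomial.optionEquivLeft Γ(S, V) (Fin n)
  refine ⟨(ψ'.comp (RelPCLib.awayPres a)).comp e.toRingEquiv.toRingHom,
    (hs.comp (RelPCLib.awayPres_surjective a)).comp e.surjective, RingHom.ext fun r => ?_,
    fun m E hi => ?_⟩
  · change ψ' (RelPCLib.awayPres a (e (algebraMap Γ(S, V) _ r))) = _
    rw [e.commutes, IsScalarTower.algebraMap_apply Γ(S, V) (MvPolynomial (Fin n) Γ(S, V))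
      (Polynomial (MvPolynomial (Fin n) Γ(S, V))), Polynomial.algebraMap_eq, RelPCLib.awayPres_C]
    refine (RingHom.congr_fun hcomp _).trans ?_
    change X.presheaf.map (homOfLE hle).op (φ (MvPolynomial.C r)) = f.appLE V O h' r
    rw [show φ (MvPolynomial.C r) = f.appLE V U h r from RingHom.congr_fun hφ.2 r]
    exact ConcreteCategory.congr_hom (f.appLE_map h (homOfLE hle).op) r
  haveI := isClosedImmersion_imm hO hs
  obtain ⟨c⟩ := hres E
  refine ((cpc_comp (π := e.toRingEquiv.toRingHom) e.surjective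
      (RelPCLib.ph_of_bijective _ e.bijective) hO
      (ψ := ψ'.comp (RelPCLib.awayPres a)) (hs.comp (RelPCLib.awayPres_surjective a)) m E).trans
      (cpc_comp (RelPCLib.awayPres_surjective a) (RelPCLib.ph_awayPres a) hO hs m E)).trans ?_
  exact ⟨fun hp => isPC_of_iso c.symm (hp inferInstance), fun hp _ => isPC_of_iso c hp⟩

/-- Passing to a basic open of the source. -/
theorem rpc_basic_source [LocallyOfFiniteType f] {m : ℤ} {E : DCoh.D X} {U O : X.Opens}
    (hU : IsAffineOpen U) (hO : IsAffineOpen O) (g : Γ(X, U)) (hg : O = X.basicOpen g)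
    {V : S.Opens} (hV : IsAffineOpen V) (h : U ≤ f ⁻¹ᵁ V) (h' : O ≤ f ⁻¹ᵁ V)
    (hr : RPC f m E U V h) : RPC f m E O V h' := by
  obtain ⟨n, φ, hφ⟩ := exists_isChart f hU hV h
  obtain ⟨a, rfl⟩ := hφ.1 g
  obtain ⟨β, hβ, hβC, hiff⟩ := exists_basic_pres f hU hO h h' φ hφ a hg
  haveI := isClosedImmersion_imm hU hφ.1
  exact rpc_of_cpc f hO β hβ hβC ((hiff m E inferInstance).2
    (Groth.Agent.PerfLib.isPC_res (hr n φ hφ inferInstance) _))

/-- The test is local on the source. -/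
theorem rpc_of_basic_cover [LocallyOfFiniteType f] {m : ℤ} {E : DCoh.D X} {U : X.Opens}
    (hU : IsAffineOpen U) {V : S.Opens} (hV : IsAffineOpen V) (h : U ≤ f ⁻¹ᵁ V)
    (hr : ∀ x : U, ∃ g : Γ(X, U), (x : X) ∈ X.basicOpen g ∧
      RPC f m E (X.basicOpen g) V ((X.basicOpen_le g).trans h)) :
    RPC f m E U V h := by
  intro n φ hφ
  choose g hxg hgr using hr
  choose a ha using fun x => hφ.1 (g x)
  refine cpc_of_cover m E a (fun x => ⟨x, by simpa [ha] using hxg x⟩) fun x hi => ?_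
  obtain ⟨β, hβ, hβC, hiff⟩ := exists_basic_pres f hU (hU.basicOpen (g x)) h
    ((X.basicOpen_le (g x)).trans h) φ hφ (a x) (by rw [ha x])
  exact (hiff m E hi).1 (cpc_of_rpc f (hU.basicOpen (g x)) hV (hgr x) β hβ hβC)

/-- A polynomial ring over a principal localization is a pseudo-coherent quotient. -/
theorem exists_target_pres {R T : Type u} [CommRing R] [CommRing T] [Algebra R T] (a : R)
    [IsLocalization.Away a T] (n : ℕ) :
    ∃ π : MvPolynomial (Option (Fin n)) R →+* MvPolynomial (Fin n) T,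
      Function.Surjective π ∧ RelPCLib.PH π ∧
        ∀ r, π (MvPolynomial.C r) = MvPolynomial.C (algebraMap R T r) := by
  letI : Algebra (MvPolynomial (Fin n) R) (MvPolynomial (Fin n) T) :=
    (MvPolynomial.map (algebraMap R T)).toAlgebra
  haveI : IsLocalization.Away (MvPolynomial.C a : MvPolynomial (Fin n) R) (MvPolynomial (Fin n) T) := by
    have h := MvPolynomial.isLocalization (σ := Fin n) (Submonoid.powers a) T
    rwa [Submonoid.map_powers] at h
  let ι := IsLocalization.algEquiv (Submonoid.powers (MvPolynomial.C a : MvPolynomial (Fin n) R))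
    (Localization.Away (MvPolynomial.C a : MvPolynomial (Fin n) R)) (MvPolynomial (Fin n) T)
  let e := MvPolynomial.optionEquivLeft R (Fin n)
  refine ⟨(ι.toRingEquiv.toRingHom.comp (RelPCLib.awayPres (MvPolynomial.C a))).comp
      e.toRingEquiv.toRingHom,
    (ι.surjective.comp (RelPCLib.awayPres_surjective _)).comp e.surjective,
    (RelPCLib.ph_of_bijective _ e.bijective).comp
      ((RelPCLib.ph_awayPres _).comp (RelPCLib.ph_of_bijective _ ι.bijective)), fun r => ?_⟩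
  change ι (RelPCLib.awayPres _ (e (algebraMap R _ r))) = _
  rw [e.commutes, IsScalarTower.algebraMap_apply R (MvPolynomial (Fin n) R)
    (Polynomial (MvPolynomial (Fin n) R)), Polynomial.algebraMap_eq, RelPCLib.awayPres_C, ι.commutes]
  exact MvPolynomial.map_C _ r

/-- Changing the target to a basic open. -/
theorem rpc_basic_target_iff [LocallyOfFiniteType f] {m : ℤ} {E : DCoh.D X} {U : X.Opens}
    (hU : IsAffineOpen U) {V W : S.Opens} (hV : IsAffineOpen V) (a : Γ(S, V))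
    (ha : W = S.basicOpen a) (h : U ≤ f ⁻¹ᵁ V) (h' : U ≤ f ⁻¹ᵁ W) :
    RPC f m E U W h' ↔ RPC f m E U V h := by
  have i : W ≤ V := ha ▸ S.basicOpen_le a
  have hW : IsAffineOpen W := ha ▸ hV.basicOpen a
  letI := (S.presheaf.map (homOfLE i).op).hom.toAlgebra
  haveI : IsLocalization.Away a Γ(S, W) := hV.isLocalization_of_eq_basicOpen a (homOfLE i) ha
  obtain ⟨n, φ, hφ⟩ := exists_isChart f hU hW h'
  obtain ⟨π, hπ, hph, hπC⟩ := exists_target_pres (R := Γ(S, V)) (T := Γ(S, W)) a n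
  have hC : (φ.comp π).comp MvPolynomial.C = (f.appLE V U h).hom := RingHom.ext fun r => by
    rw [RingHom.comp_apply, RingHom.comp_apply, hπC, ← RingHom.comp_apply φ, hφ.2]
    exact ConcreteCategory.congr_hom (f.map_appLE h' (homOfLE i).op) r
  have key := cpc_comp hπ hph hU (ψ := φ) hφ.1 m E
  exact ⟨fun hr => rpc_of_cpc f hU (φ.comp π) (hφ.1.comp hπ) hC (key.2 (hr n φ hφ)),
    fun hr => rpc_of_cpc f hU φ hφ.1 hφ.2 (key.1 (cpc_of_rpc f hU hV hr _ (hφ.1.comp hπ) hC))⟩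

/-- The relative notion gives the test on every pair of affine opens. -/
theorem rpc_of_rel {m : ℤ} {E : DCoh.D X} (hrel : DerSch.IsPseudoCoherentRel f m E) {U : X.Opens}
    (hU : IsAffineOpen U) {V : S.Opens} (hV : IsAffineOpen V) (h : U ≤ f ⁻¹ᵁ V) : RPC f m E U V h := by
  obtain ⟨hft, 𝒱, h𝒱, hc⟩ := hrel
  haveI := hft
  refine rpc_of_basic_cover f hU hV h ?_
  rintro ⟨x, hx⟩
  obtain ⟨V', hV'm, hfx'⟩ : ∃ V' ∈ 𝒱, f x ∈ (V' : S.Opens) := by
    have := h𝒱.ge (Opens.mem_top (f x))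
    simpa [Opens.mem_iSup] using this
  obtain ⟨𝒰, h𝒰, hch⟩ := hc V' hV'm
  obtain ⟨U', hU'm, hxU'⟩ : ∃ U' ∈ 𝒰, x ∈ (U' : X.Opens) := by
    have := h𝒰.ge (show x ∈ f ⁻¹ᵁ (V' : S.Opens) from hfx')
    simpa [Opens.mem_iSup] using this
  have h'' : (U' : X.Opens) ≤ f ⁻¹ᵁ (V' : S.Opens) :=
    h𝒰 ▸ le_iSup₂ (f := fun (U : X.affineOpens) (_ : U ∈ 𝒰) => (U : X.Opens)) U' hU'm
  obtain ⟨n, φ, hφ, hpc⟩ := hch U' hU'm h''
  have hr' : RPC f m E U' (V' : S.Opens) h'' := rpc_of_chart f U'.2 h'' φ hφ hpc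
  obtain ⟨a, a', haa, hfa⟩ := exists_basicOpen_le_affine_inter hV V'.2 (f x) ⟨h hx, hfx'⟩
  obtain ⟨g₁, g₁', hgg, hxg₁⟩ := exists_basicOpen_le_affine_inter hU U'.2 x ⟨hx, hxU'⟩
  obtain ⟨g₂, hg₂, hxg₂⟩ := hU.exists_basicOpen_le
    (V := X.basicOpen g₁ ⊓ f ⁻¹ᵁ S.basicOpen a) ⟨x, hxg₁, hfa⟩ hx
  obtain ⟨g', hg'⟩ := U'.2.basicOpen_basicOpen_is_basicOpen g₁'
    (X.presheaf.map (homOfLE (show X.basicOpen g₁' ≤ U from hgg ▸ X.basicOpen_le g₁)).op g₂)
  have hg'2 : X.basicOpen g₂ = X.basicOpen g' := by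
    rw [hg', Scheme.basicOpen_res, ← hgg, inf_eq_right.2 (hg₂.trans inf_le_left)]
  refine ⟨g₂, hxg₂, ?_⟩
  have hW : X.basicOpen g₂ ≤ f ⁻¹ᵁ S.basicOpen a := hg₂.trans inf_le_right
  have hV'2 : X.basicOpen g₂ ≤ f ⁻¹ᵁ (V' : S.Opens) :=
    hW.trans ((Opens.map f.base).map (homOfLE (haa ▸ S.basicOpen_le a'))).le
  exact (rpc_basic_target_iff f (hU.basicOpen g₂) hV a rfl _ hW).1
    ((rpc_basic_target_iff f (hU.basicOpen g₂) V'.2 a' haa hV'2 hW).2
      (rpc_basic_source f U'.2 (hU.basicOpen g₂) g' hg'2 V'.2 h'' hV'2 hr'))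

/-- The test on every pair gives the relative notion. -/
theorem rel_of_rpc [LocallyOfFiniteType f] {m : ℤ} {E : DCoh.D X}
    (hr : ∀ (U : X.affineOpens) (V : S.affineOpens) (h : (U : X.Opens) ≤ f ⁻¹ᵁ (V : S.Opens)),
      RPC f m E U (V : S.Opens) h) : DerSch.IsPseudoCoherentRel f m E := by
  refine ⟨inferInstance, Set.univ, by simpa using iSup_affineOpens_eq_top S, fun V _ =>
    ⟨{U | (U : X.Opens) ≤ f ⁻¹ᵁ (V : S.Opens)}, ?_,
      fun U _ h => exists_chart_of_rpc f U.2 V.2 h (hr U V h)⟩⟩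
  refine le_antisymm (iSup₂_le fun U hU => hU) fun x hx => ?_
  obtain ⟨_, ⟨W, hW, rfl⟩, hxW, hWV⟩ :=
    X.isBasis_affineOpens.exists_subset_of_mem_open hx (f ⁻¹ᵁ (V : S.Opens)).2
  exact Opens.mem_iSup.2 ⟨⟨W, hW⟩, Opens.mem_iSup.2 ⟨hWV, hxW⟩⟩

end Groth.Agent.RelPCSchLib
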